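import Mathlib.AlgebraicGeometry.ValuativeCriterion
import Mathlib.AlgebraicGeometry.Morphisms.UniversallyOpen
import Mathlib.AlgebraicGeometry.Morphisms.Flat
import Mathlib.RingTheory.Flat.TorsionFree
import Mathlib.RingTheory.Flat.FaithfullyFlat.Basic
import Mathlib.RingTheory.Valuation.ValuationRing

/-!
Valuation rings realizing specializations on schemes.
-/

universe u

open CategoryTheory CategoryTheory.Limits AlgebraicGeometry IsLocalRing

namespace Groth.Agent.Lib.Subtrusive.Valuation

/-- The generic point of the spectrum of a domain. -/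
def genPt (V : Type u) [CommRing V] [IsDomain V] : Spec (CommRingCat.of V) :=
  (⟨⊥, Ideal.isPrime_bot⟩ : PrimeSpectrum V)

/-- The closed point of the spectrum of a local ring. -/
def clPt (V : Type u) [CommRing V] [IsLocalRing V] : Spec (CommRingCat.of V) :=
  IsLocalRing.closedPoint V

theorem genPt_specializes {V : Type u} [CommRing V] [IsDomain V] (p : Spec (CommRingCat.of V)) :
    genPt V ⤳ p :=
  (PrimeSpectrum.le_iff_specializes _ _).mp
    (show (⊥ : Ideal V) ≤ (p : PrimeSpectrum V).asIdeal from bot_le)

theorem specializes_clPt {V : Type u} [CommRing V] [IsLocalRing V] (p : Spec (CommRingCat.of V)) :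
    p ⤳ clPt V :=
  (PrimeSpectrum.le_iff_specializes _ _).mp (IsLocalRing.le_maximalIdeal p.2.ne_top)

theorem eq_genPt_of_specializes {V : Type u} [CommRing V] [IsDomain V]
    {p : Spec (CommRingCat.of V)} (h : p ⤳ genPt V) : p = genPt V :=
  (h.antisymm (genPt_specializes p)).eq

theorem eq_clPt_of_specializes {V : Type u} [CommRing V] [IsLocalRing V]
    {p : Spec (CommRingCat.of V)} (h : clPt V ⤳ p) : p = clPt V :=
  ((specializes_clPt p).antisymm h).eq

theorem specMap_genPt {R V : Type u} [CommRing R] [CommRing V] [IsDomain R] [IsDomain V]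
    (φ : R →+* V) (hφ : Function.Injective φ) :
    Spec.map (CommRingCat.ofHom φ) (genPt V) = genPt R :=
  PrimeSpectrum.ext (Ideal.comap_bot_of_injective φ hφ)

theorem specMap_clPt {R V : Type u} [CommRing R] [CommRing V] [IsLocalRing R] [IsLocalRing V]
    (φ : R →+* V) [IsLocalHom φ] :
    Spec.map (CommRingCat.ofHom φ) (clPt V) = clPt R :=
  PrimeSpectrum.ext (IsLocalRing.maximalIdeal_comap φ)

/-- An injective local map of valuation rings is faithfully flat, hence surjective on spectra. -/
theorem flat_specMap {V W : Type u} [CommRing V] [IsDomain V] [ValuationRing V] [CommRing W]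
    [IsDomain W] (φ : V →+* W) (hφ : Function.Injective φ) :
    Flat (Spec.map (CommRingCat.ofHom φ)) := by
  rw [Flat.SpecMap_iff]
  let := φ.toAlgebra
  show RingHom.Flat φ
  have : FaithfulSMul V W := (faithfulSMul_iff_algebraMap_injective V W).mpr hφ
  have : Module.IsTorsionFree V W := inferInstance
  exact Module.Flat.flat_iff_torsion_eq_bot_of_isBezout.mpr
    (Submodule.isTorsionFree_iff_torsion_eq_bot.mp inferInstance)

theorem surjective_specMap {V W : Type u} [CommRing V] [IsDomain V] [ValuationRing V] [CommRing W]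
    [IsDomain W] [IsLocalRing W] (φ : V →+* W) (hφ : Function.Injective φ) [IsLocalHom φ] :
    Surjective (Spec.map (CommRingCat.ofHom φ)) := by
  have := flat_specMap φ hφ
  refine ⟨fun p => ?_⟩
  obtain ⟨q, -, hq⟩ := Flat.generalizingMap (Spec.map (CommRingCat.ofHom φ))
    (show p ⤳ Spec.map (CommRingCat.ofHom φ) (clPt W) by
      rw [specMap_clPt φ]; exact specializes_clPt p)
  exact ⟨q, hq⟩

theorem surjective_apply_genPt {V W : Type u} [CommRing V] [IsDomain V] [CommRing W] [IsDomain W]
    (b : Spec (CommRingCat.of W) ⟶ Spec (CommRingCat.of V)) [Surjective b] :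
    b (genPt W) = genPt V := by
  obtain ⟨p, hp⟩ := b.surjective (genPt V)
  exact eq_genPt_of_specializes (hp ▸ (genPt_specializes p).map b.continuous)

theorem surjective_apply_clPt {V W : Type u} [CommRing V] [IsLocalRing V] [CommRing W]
    [IsLocalRing W] (b : Spec (CommRingCat.of W) ⟶ Spec (CommRingCat.of V)) [Surjective b] :
    b (clPt W) = clPt V := by
  obtain ⟨p, hp⟩ := b.surjective (clPt V)
  exact eq_clPt_of_specializes (hp ▸ (specializes_clPt p).map b.continuous)

theorem exists_ringHom_of_endpoints {V W : Type u} [CommRing V] [IsDomain V] [IsLocalRing V]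
    [CommRing W] [IsDomain W] [IsLocalRing W]
    (b : Spec (CommRingCat.of W) ⟶ Spec (CommRingCat.of V))
    (hg : b (genPt W) = genPt V) (hc : b (clPt W) = clPt V) :
    ∃ φ : V →+* W, Function.Injective φ ∧ IsLocalHom φ ∧ b = Spec.map (CommRingCat.ofHom φ) := by
  obtain ⟨φ, rfl⟩ := Spec.map_surjective b
  refine ⟨φ.hom, ?_, ?_, rfl⟩
  · rw [RingHom.injective_iff_ker_eq_bot]
    exact congrArg PrimeSpectrum.asIdeal hg
  · exact ((IsLocalRing.local_hom_TFAE φ.hom).out 0 4).mpr (congrArg PrimeSpectrum.asIdeal hc)

theorem surjective_of_endpoints {V W : Type u} [CommRing V] [IsDomain V] [ValuationRing V]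
    [CommRing W] [IsDomain W] [IsLocalRing W]
    (b : Spec (CommRingCat.of W) ⟶ Spec (CommRingCat.of V))
    (hg : b (genPt W) = genPt V) (hc : b (clPt W) = clPt V) : Surjective b := by
  obtain ⟨φ, hi, hl, rfl⟩ := exists_ringHom_of_endpoints b hg hc
  exact surjective_specMap φ hi

/-- Given a field valued point over `x'` and a specialization `x' ⤳ x`, some valuation subring
of the field realizes the specialization. -/
theorem exists_valuationSubring_of_specializes {X : Scheme.{u}} {x' x : X} (h : x' ⤳ x)
    {K : Type u} [Field K] (ι : X.residueField x' ⟶ CommRingCat.of K) :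
    ∃ (A : ValuationSubring K) (g : Spec (CommRingCat.of A) ⟶ X),
      g (genPt A) = x' ∧ g (clPt A) = x ∧
      Spec.map (CommRingCat.ofHom A.subtype) ≫ g = Spec.map ι ≫ X.fromSpecResidueField x' := by
  let ψ : X.presheaf.stalk x ⟶ CommRingCat.of K :=
    X.presheaf.stalkSpecializes h ≫ X.residue x' ≫ ι
  obtain ⟨A, hA, hA'⟩ := exists_factor_valuationRing ψ.hom
  let φ : X.presheaf.stalk x ⟶ CommRingCat.of A := CommRingCat.ofHom (ψ.hom.codRestrict _ hA)
  have hw : Spec.map (CommRingCat.ofHom A.subtype) ≫ Spec.map φ ≫ X.fromSpecStalk x =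
      Spec.map ι ≫ X.fromSpecResidueField x' := by
    rw [← Spec.map_comp_assoc, Scheme.fromSpecResidueField, ← Spec.map_comp_assoc,
      ← Scheme.SpecMap_stalkSpecializes_fromSpecStalk h, ← Spec.map_comp_assoc]
    rfl
  refine ⟨A, Spec.map φ ≫ X.fromSpecStalk x, ?_, ?_, hw⟩
  · have hg : Spec.map (CommRingCat.ofHom A.subtype) (genPt K) = genPt A :=
      specMap_genPt _ Subtype.val_injective
    rw [← hg, ← Scheme.Hom.comp_apply, hw, Scheme.Hom.comp_apply,
      Scheme.fromSpecResidueField_apply]
  · rw [Scheme.Hom.comp_apply]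
    have : IsLocalHom (ψ.hom.codRestrict A.toSubring hA) := hA'
    have := comap_closedPoint (S := A) (ψ.hom.codRestrict A.toSubring hA)
    rw [show Spec.map φ (clPt A) = IsLocalRing.closedPoint (X.presheaf.stalk x) from this,
      Scheme.fromSpecStalk_closedPoint]

/-- Every specialization in a scheme is realized by a valuation ring. -/
theorem exists_valuationRing_of_specializes {X : Scheme.{u}} {x' x : X} (h : x' ⤳ x) :
    ∃ (V : Type u) (_ : CommRing V) (_ : IsDomain V) (_ : ValuationRing V)
      (g : Spec (CommRingCat.of V) ⟶ X), g (genPt V) = x' ∧ g (clPt V) = x := by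
  obtain ⟨A, g, h1, h2, -⟩ :=
    exists_valuationSubring_of_specializes (K := X.residueField x') h (𝟙 _)
  exact ⟨A, inferInstance, inferInstance, inferInstance, g, h1, h2⟩

end Groth.Agent.Lib.Subtrusive.Valuation
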