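import Groth.Prelude.Def_ProCons
import Mathlib.Topology.Spectral.ConstructibleTopology
import Mathlib.AlgebraicGeometry.Morphisms.QuasiSeparated
import Mathlib.AlgebraicGeometry.AffineScheme
import Mathlib.AlgebraicGeometry.Properties

/-!
Closure of pro-constructible sets is their set of specializations.
-/

universe u

open Topology TopologicalSpace

namespace Groth.Agent.Lib.Subtrusive.ProConstructible

theorem isClosed_constructibleTopology {α : Type*} [TopologicalSpace α] [CompactSpace α]
    {s : Set α} (hs : Topology.IsConstructible s) : IsClosed[constructibleTopology α] s := by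
  revert hs
  intro hs
  suffices IsOpen[constructibleTopology α] s ∧ IsClosed[constructibleTopology α] s from this.2
  induction hs using Topology.IsConstructible.empty_union_induction with
  | open_retrocompact U hU hUr =>
    have h1 := IsCompact.isOpen_constructibleTopology_of_isOpen hUr.isCompact hU
    have h2 : IsOpen[constructibleTopology α] Uᶜ := IsCompact.isOpen_constructibleTopology_of_isClosed
      (by rw [compl_compl]; exact hUr.isCompact) hU.isClosed_compl
    let _ := constructibleTopology α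
    exact ⟨h1, isOpen_compl_iff.mp h2⟩
  | union s hs t ht h1 h2 =>
    let _ := constructibleTopology α
    exact ⟨h1.1.union h2.1, h1.2.union h2.2⟩
  | compl s hs h1 =>
    let _ := constructibleTopology α
    exact ⟨h1.2.isOpen_compl, h1.1.isClosed_compl⟩

/-- In a spectral space, a point in the closure of an intersection of constructible sets has a
generization in it. -/
theorem exists_generization {α : Type*} [TopologicalSpace α] [CompactSpace α] [QuasiSober α]
    [PrespectralSpace α] [QuasiSeparatedSpace α] {S : Set (Set α)}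
    (hS : ∀ T ∈ S, Topology.IsConstructible T) {y : α} (hy : y ∈ closure (⋂₀ S)) :
    ∃ z ∈ ⋂₀ S, z ⤳ y := by
  let S' : Set (Set α) := {U | IsOpen U ∧ IsCompact U ∧ y ∈ U}
  have hc : @CompactSpace α (constructibleTopology α) :=
    @Function.Surjective.compactSpace (WithConstructibleTopology α) α _ (constructibleTopology α)
      WithTopology.ofTopology (WithTopology.continuous_ofTopology _) compactSpace_withConstructibleTopology
      (WithTopology.ofTopology_surjective _)
  obtain ⟨z, hz⟩ := @CompactSpace.nonempty_sInter α (constructibleTopology α) hc (S ∪ S')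
    (by
      rintro T (hT | hT)
      · exact isClosed_constructibleTopology (hS T hT)
      · exact isClosed_constructibleTopology (hT.2.1.isConstructible hT.1))
    (fun t ht hf => by
      obtain ⟨p, hp, hp'⟩ := mem_closure_iff.mp hy (⋂₀ (t ∩ S'))
        ((hf.inter_of_left S').isOpen_sInter fun U hU => hU.2.1) (fun U hU => hU.2.2.2)
      refine ⟨p, fun T hT => (ht hT).elim (fun h => hp' T h) fun h => hp T ⟨hT, h⟩⟩)
  refine ⟨z, fun T hT => hz T (Or.inl hT), specializes_iff_forall_open.mpr fun U hU hyU => ?_⟩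
  obtain ⟨U', ⟨hU'o, hU'c⟩, hy', hsub⟩ :=
    PrespectralSpace.isTopologicalBasis.exists_subset_of_mem_open hyU hU
  exact hsub (hz U' (Or.inr ⟨hU'o, hU'c, hy'⟩))

open CategoryTheory AlgebraicGeometry

theorem exists_generization_of_isProConstructible {Y : Scheme.{u}} {Z : Set Y}
    (hZ : ProCons.IsProConstructible Z) {y : Y} (hy : y ∈ closure Z) : ∃ z ∈ Z, z ⤳ y := by
  obtain ⟨U, hU, hyU, S, hS, hZS⟩ := hZ y
  obtain ⟨V, hV, hyV, hVU⟩ := exists_isAffineOpen_mem_and_subset (x := y) (U := ⟨U, hU⟩) hyU
  have : IsAffine (V : Scheme.{u}) := hV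
  have : CompactSpace ↥V := (inferInstance : CompactSpace (V : Scheme.{u}))
  have : QuasiSober ↥V := (inferInstance : QuasiSober (V : Scheme.{u}))
  have : PrespectralSpace ↥V := (inferInstance : PrespectralSpace (V : Scheme.{u}))
  have : QuasiSeparatedSpace ↥V := (inferInstance : QuasiSeparatedSpace (V : Scheme.{u}))
  let j : ↥V → ↥U := fun v => ⟨v.1, hVU v.2⟩
  have hj : IsOpenEmbedding j :=
    IsOpenEmbedding.of_continuous_injective_isOpenMap (by fun_prop)
      (fun a b h => Subtype.ext (Subtype.mk.inj h))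
      (fun o ho => ⟨Subtype.val '' o, V.2.isOpenMap_subtype_val o ho, by
        ext ⟨a, ha⟩
        simp [j]⟩)
  have hmem : (⟨y, hyV⟩ : ↥V) ∈ closure (⋂₀ ((j ⁻¹' ·) '' S)) := by
    rw [Set.sInter_image, ← Set.preimage_iInter₂, ← Set.sInter_eq_biInter, ← hZS]
    have he : IsInducing (Subtype.val : ↥V → Y) := IsInducing.subtypeVal
    rw [he.closure_eq_preimage_closure_image, Set.mem_preimage, mem_closure_iff]
    intro o ho hyo
    obtain ⟨z, ⟨hzo, hzV⟩, hzZ⟩ := mem_closure_iff.mp hy (o ∩ V) (ho.inter V.2) ⟨hyo, hyV⟩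
    exact ⟨z, hzo, ⟨⟨z, hzV⟩, hzZ, rfl⟩⟩
  obtain ⟨z, hz, hzy⟩ := exists_generization
    (fun T hT => by
      obtain ⟨T, hT, rfl⟩ := hT
      have : PrespectralSpace ↥V := (inferInstance : PrespectralSpace (V : Scheme.{u}))
      exact ((hS T hT).preimage_of_isOpenEmbedding hj).isConstructible) hmem
  refine ⟨z.1, ?_, hzy.map continuous_subtype_val⟩
  rw [Set.sInter_image, ← Set.preimage_iInter₂, ← Set.sInter_eq_biInter, ← hZS] at hz
  exact hz

theorem isProConstructible_singleton {Y : Scheme.{u}} (y : Y) :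
    ProCons.IsProConstructible ({y} : Set Y) := by
  intro x
  obtain ⟨V, hV, hxV, -⟩ := exists_isAffineOpen_mem_and_subset (x := x) (U := ⊤) trivial
  have : IsAffine (V : Scheme.{u}) := hV
  refine ⟨V, V.2, hxV, {T | Topology.IsLocallyConstructible T ∧
    (Subtype.val ⁻¹' {y} : Set ↥(V : Set Y)) ⊆ T}, fun T hT => hT.1, ?_⟩
  refine Set.Subset.antisymm (fun a ha T hT => hT.2 ha) fun a ha => ?_
  by_cases hy : y ∈ V
  · -- compact opens separate points
    have key : ∀ W : Set ↥(V : Set Y), IsOpen W → IsCompact W → (a ∈ W ↔ ⟨y, hy⟩ ∈ W) := by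
      intro W hW hWc
      have : QuasiSeparatedSpace ↥(V : Set Y) :=
        (inferInstance : QuasiSeparatedSpace (V : Scheme.{u}))
      have hr := hWc.isConstructible hW
      constructor
      · intro h
        by_contra h'
        exact ha _ ⟨hr.compl.isLocallyConstructible, fun b hb => by
          obtain rfl : b = ⟨y, hy⟩ := Subtype.ext hb
          exact h'⟩ h
      · intro h
        exact ha _ ⟨hr.isLocallyConstructible, fun b hb => by
          obtain rfl : b = ⟨y, hy⟩ := Subtype.ext hb
          exact h⟩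
    have hp : PrespectralSpace ↥(V : Set Y) := (inferInstance : PrespectralSpace (V : Scheme.{u}))
    have h1 : a ⤳ ⟨y, hy⟩ := specializes_iff_forall_open.mpr fun o ho h => by
      obtain ⟨W, ⟨hWo, hWc⟩, hW, hsub⟩ :=
        PrespectralSpace.isTopologicalBasis.exists_subset_of_mem_open h ho
      exact hsub ((key W hWo hWc).mpr hW)
    have h2 : (⟨y, hy⟩ : ↥(V : Set Y)) ⤳ a := specializes_iff_forall_open.mpr fun o ho h => by
      obtain ⟨W, ⟨hWo, hWc⟩, hW, hsub⟩ :=
        PrespectralSpace.isTopologicalBasis.exists_subset_of_mem_open h ho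
      exact hsub ((key W hWo hWc).mp hW)
    have : (a : Y) = y :=
      ((h1.map continuous_subtype_val).antisymm (h2.map continuous_subtype_val)).eq
    exact this
  · exact (ha ∅ ⟨.empty, fun b hb => hy (hb ▸ b.2)⟩).elim

theorem isProConstructible_preimage {X Y : Scheme.{u}} (f : X ⟶ Y) {Z : Set Y}
    (hZ : ProCons.IsProConstructible Z) : ProCons.IsProConstructible (f ⁻¹' Z) := by
  intro x
  obtain ⟨U, hU, hyU, S, hS, hZS⟩ := hZ (f x)
  obtain ⟨V, hV, hyV, hVU⟩ := exists_isAffineOpen_mem_and_subset (x := f x) (U := ⟨U, hU⟩) hyU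
  obtain ⟨W, hW, hxW, hWV⟩ := exists_isAffineOpen_mem_and_subset (x := x) (U := f ⁻¹ᵁ V) hyV
  have : IsAffine (V : Scheme.{u}) := hV
  have : IsAffine (W : Scheme.{u}) := hW
  let r : (W : Scheme.{u}) ⟶ (V : Scheme.{u}) := f.resLE V W hWV
  have hr : ∀ w : (W : Scheme.{u}), (r w : ↥V).1 = f w.1 := fun w => by
    show (r ≫ V.ι) w = _
    rw [show r ≫ V.ι = W.ι ≫ f from Scheme.Hom.resLE_comp_ι _ _]
    rfl
  let j : ↥V → ↥U := fun v => ⟨v.1, hVU v.2⟩
  have hj : IsOpenEmbedding j :=
    IsOpenEmbedding.of_continuous_injective_isOpenMap (by fun_prop)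
      (fun a b h => Subtype.ext (Subtype.mk.inj h))
      (fun o ho => ⟨Subtype.val '' o, V.2.isOpenMap_subtype_val o ho, by
        ext ⟨a, ha⟩
        simp [j]⟩)
  have hprec : ∀ T ∈ S, Topology.IsLocallyConstructible
      (r ⁻¹' (j ⁻¹' T) : Set (W : Scheme.{u})) := fun T hT => by
    refine (IsConstructible.preimage (Y := (V : Scheme.{u})) r.continuous (fun o ho hor => ?_)
      ?_).isLocallyConstructible
    · exact (r.isCompact_preimage (U := ⟨o, ho⟩) hor.isCompact).isRetrocompact (ho.preimage r.continuous)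
    · have : CompactSpace ↥V := (inferInstance : CompactSpace (V : Scheme.{u}))
      have : QuasiSeparatedSpace ↥V := (inferInstance : QuasiSeparatedSpace (V : Scheme.{u}))
      have : PrespectralSpace ↥V := (inferInstance : PrespectralSpace (V : Scheme.{u}))
      exact ((hS T hT).preimage_of_isOpenEmbedding hj).isConstructible
  refine ⟨W, W.2, hxW, (fun T => (r ⁻¹' (j ⁻¹' T) : Set (W : Scheme.{u}))) '' S, ?_, ?_⟩
  · rintro _ ⟨T, hT, rfl⟩
    exact hprec T hT
  · ext w
    show f w.1 ∈ Z ↔ _
    rw [← hr w]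
    show j (r w) ∈ Subtype.val ⁻¹' Z ↔ _
    rw [hZS]
    constructor
    · rintro h _ ⟨T, hT, rfl⟩
      exact h T hT
    · intro h T hT
      exact h _ ⟨T, hT, rfl⟩

end Groth.Agent.Lib.Subtrusive.ProConstructible
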