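import Mathlib.AlgebraicGeometry.Morphisms.QuasiSeparated
import Mathlib.AlgebraicGeometry.PullbackCarrier
import Mathlib.RingTheory.Spectrum.Prime.Topology

/-!
Images of closed sets under quasi-compact morphisms.
-/

universe u

open CategoryTheory CategoryTheory.Limits AlgebraicGeometry

namespace Groth.Agent.Lib.Subtrusive.ClosedImage

/-- The image of a closed set under a quasi-compact morphism is closed as soon as it is stable
under specialization. -/
theorem isClosed_image {X Y : Scheme.{u}} (f : X ⟶ Y) [QuasiCompact f] {Z : Set X}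
    (hZ : IsClosed Z) (H : StableUnderSpecialization (f '' Z)) : IsClosed (f '' Z) := by
  wlog hY : ∃ R, Y = Spec R
  · let 𝒰 := Y.affineCover
    rw [← isOpen_compl_iff, 𝒰.isOpenCover_opensRange.isOpen_iff_inter]
    intro i
    rw [Scheme.Hom.coe_opensRange, ← Set.image_preimage_eq_inter_range]
    apply (𝒰.f i).isOpenEmbedding.isOpenMap
    rw [Set.preimage_compl, isOpen_compl_iff]
    have key : (𝒰.f i) ⁻¹' (f '' Z) = pullback.fst (𝒰.f i) f '' (pullback.snd (𝒰.f i) f ⁻¹' Z) := by
      ext y
      constructor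
      · rintro ⟨x, hx, hxy⟩
        obtain ⟨t, ht1, ht2⟩ := Scheme.Pullback.exists_preimage_pullback (f := 𝒰.f i) (g := f)
          y x hxy.symm
        exact ⟨t, show pullback.snd (𝒰.f i) f t ∈ Z from ht2.symm ▸ hx, ht1⟩
      · rintro ⟨t, ht, rfl⟩
        refine ⟨_, ht, ?_⟩
        rw [← Scheme.Hom.comp_apply, ← pullback.condition, Scheme.Hom.comp_apply]
    rw [key]
    refine this (f := pullback.fst (𝒰.f i) f) (hZ.preimage (Scheme.Hom.continuous _)) ?_ ⟨_, rfl⟩
    rw [← key]
    exact fun a b hab ha => H (hab.map (𝒰.f i).continuous) ha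
  obtain ⟨R, rfl⟩ := hY
  wlog hX : ∃ S, X = Spec S
  · obtain ⟨S, g, hg⟩ := compactSpace_iff_exists.mp (QuasiCompact.compactSpace_of_compactSpace f)
    have hqc : QuasiCompact (g ≫ f) :=
      (quasiCompact_iff_compactSpace (g ≫ f)).mpr inferInstance
    have e : (g ≫ f) '' (g ⁻¹' Z) = f '' Z := by
      simp_rw [Scheme.Hom.comp_base, TopCat.comp_app, ← Set.image_image,
        Set.image_preimage_eq _ hg]
    rw [← e] at H ⊢
    exact this (f := g ≫ f) (hZ.preimage g.continuous) (R := R) (H := H) ⟨_, rfl⟩
  obtain ⟨S, rfl⟩ := hX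
  obtain ⟨φ, rfl⟩ := Spec.map_surjective f
  exact PrimeSpectrum.isClosed_image_of_stableUnderSpecialization φ.hom Z hZ H

/-- A set with open preimage under a surjective quasi-compact morphism is open as soon as it is
stable under generalization. -/
theorem isOpen_of_preimage {X Y : Scheme.{u}} (f : X ⟶ Y) [QuasiCompact f]
    (hs : Function.Surjective f) {W : Set Y} (hW : IsOpen (f ⁻¹' W))
    (H : StableUnderGeneralization W) : IsOpen W := by
  rw [← isClosed_compl_iff]
  rw [← stableUnderSpecialization_compl_iff, ← Set.image_preimage_eq Wᶜ hs,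
    Set.preimage_compl] at H
  have := isClosed_image f hW.isClosed_compl H
  rwa [← Set.preimage_compl, Set.image_preimage_eq Wᶜ hs] at this

end Groth.Agent.Lib.Subtrusive.ClosedImage
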