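import Groth.Prelude.Def_W4c2submetdescSubtr
import Groth.Agent.Lib.Subtrusive.Valuation
import Mathlib.AlgebraicGeometry.Morphisms.UniversallyClosed

/-!
S-subtrusive morphisms and the valuative criterion for universally S-subtrusive morphisms.
-/

universe u

open CategoryTheory CategoryTheory.Limits AlgebraicGeometry Subtr
open Groth.Agent.Lib.Subtrusive.Valuation

namespace Groth.Agent.Lib.Subtrusive.Criterion

variable {X Y Z : Scheme.{u}}

theorem surjective_of_isSSubtrusive {f : X ⟶ Y} (hf : IsSSubtrusive f) : Function.Surjective f :=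
  fun y => by
    obtain ⟨x, -, -, hx, -⟩ := hf (specializes_refl y)
    exact ⟨x, hx⟩

theorem isSSubtrusive_of_generalizingMap {f : X ⟶ Y} (hg : GeneralizingMap f)
    (hs : Function.Surjective f) : IsSSubtrusive f := by
  intro y y' h
  obtain ⟨x, rfl⟩ := hs y
  obtain ⟨x', h1, h2⟩ := hg h
  exact ⟨x, x', h1, rfl, h2⟩

theorem isSSubtrusive_of_specializingMap {f : X ⟶ Y} (hg : SpecializingMap f)
    (hs : Function.Surjective f) : IsSSubtrusive f := by
  intro y y' h
  obtain ⟨x', rfl⟩ := hs y'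
  obtain ⟨x, h1, h2⟩ := hg h
  exact ⟨x, x', h1, h2, rfl⟩

theorem isSSubtrusive_of_comp (h : X ⟶ Y) (f : Y ⟶ Z) (hf : IsSSubtrusive (h ≫ f)) :
    IsSSubtrusive f := by
  intro y y' hy
  obtain ⟨x, x', hx, hxy, hxy'⟩ := hf hy
  exact ⟨h x, h x', hx.map h.continuous, by rw [← hxy, Scheme.Hom.comp_apply],
    by rw [← hxy', Scheme.Hom.comp_apply]⟩

theorem isSSubtrusive_comp {h : X ⟶ Y} {f : Y ⟶ Z} (hh : IsSSubtrusive h) (hf : IsSSubtrusive f) :
    IsSSubtrusive (h ≫ f) := by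
  intro z z' hz
  obtain ⟨y, y', hy, hyz, hyz'⟩ := hf hz
  obtain ⟨x, x', hx, hxy, hxy'⟩ := hh hy
  exact ⟨x, x', hx, by rw [Scheme.Hom.comp_apply, hxy, hyz],
    by rw [Scheme.Hom.comp_apply, hxy', hyz']⟩

theorem isSSubtrusive_of_univ {f : X ⟶ Y} (hf : UnivSSubtrusive f) : IsSSubtrusive f :=
  MorphismProperty.universally_le (P := fun _ _ f => IsSSubtrusive f) f hf

theorem isSSubtrusive_pullback_snd {f : X ⟶ Y} (hf : UnivSSubtrusive f) (g : Z ⟶ Y) :
    IsSSubtrusive (pullback.snd f g) :=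
  hf _ _ _ (IsPullback.of_hasPullback f g).flip

theorem univSSubtrusive_of_isPullback {P : Scheme.{u}} {p : P ⟶ X} {q : P ⟶ Z} {f : X ⟶ Y}
    {g : Z ⟶ Y} (h : IsPullback p q f g) (hf : UnivSSubtrusive f) : UnivSSubtrusive q :=
  fun _ _ i₁ i₂ f' h' => hf (i₁ ≫ p) (i₂ ≫ g) f' (h'.paste_vert h.flip)

/-- Every map from the spectrum of a valuation ring lifts after an extension. -/
def HasLifts (f : X ⟶ Y) : Prop :=
  ∀ (V : Type u) [CommRing V] [IsDomain V] [ValuationRing V]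
    (g : Spec (CommRingCat.of V) ⟶ Y),
    ∃ (V' : Type u) (_ : CommRing V') (_ : IsDomain V') (_ : ValuationRing V')
      (a : Spec (CommRingCat.of V') ⟶ X) (b : Spec (CommRingCat.of V') ⟶ Spec (CommRingCat.of V)),
      Surjective b ∧ a ≫ f = b ≫ g

theorem exists_lift_of_pair {V : Type u} [CommRing V] [IsDomain V] [ValuationRing V]
    (f : X ⟶ Y) (g : Spec (CommRingCat.of V) ⟶ Y) (h : ∃ w w' : ↑(pullback f g), w' ⤳ w ∧
      pullback.snd f g w = clPt V ∧ pullback.snd f g w' = genPt V) :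
    ∃ (V' : Type u) (_ : CommRing V') (_ : IsDomain V') (_ : ValuationRing V')
      (a : Spec (CommRingCat.of V') ⟶ X) (b : Spec (CommRingCat.of V') ⟶ Spec (CommRingCat.of V)),
      Surjective b ∧ a ≫ f = b ≫ g := by
  obtain ⟨w, w', hw, hc, hg⟩ := h
  obtain ⟨W, iC, iD, iV, k, hk1, hk2⟩ := exists_valuationRing_of_specializes hw
  refine ⟨W, iC, iD, iV, k ≫ pullback.fst f g, k ≫ pullback.snd f g, ?_,
    by simp only [Category.assoc, pullback.condition]⟩
  exact surjective_of_endpoints _ (by rw [Scheme.Hom.comp_apply, hk1, hg])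
    (by rw [Scheme.Hom.comp_apply, hk2, hc])

theorem univSSubtrusive_of_hasLifts {f : X ⟶ Y} (hf : HasLifts f) : UnivSSubtrusive f := by
  intro X' Y' i₁ i₂ f' h y y' hy
  obtain ⟨V, iC, iD, iV, g, hg1, hg2⟩ := exists_valuationRing_of_specializes hy
  obtain ⟨W, iC', iD', iV', a, b, hb, hab⟩ := hf V (g ≫ i₂)
  have hw : (b ≫ g) ≫ i₂ = a ≫ f := by rw [Category.assoc, hab]
  refine ⟨h.lift (b ≫ g) a hw (clPt W), h.lift (b ≫ g) a hw (genPt W),
    (genPt_specializes _).map (h.lift (b ≫ g) a hw).continuous, ?_, ?_⟩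
  · rw [← Scheme.Hom.comp_apply, h.lift_fst, Scheme.Hom.comp_apply, surjective_apply_clPt b, hg2]
  · rw [← Scheme.Hom.comp_apply, h.lift_fst, Scheme.Hom.comp_apply, surjective_apply_genPt b, hg1]

theorem hasLifts_of_forall_isSSubtrusive {f : X ⟶ Y}
    (hf : ∀ (V : Type u) [CommRing V] [IsDomain V] [ValuationRing V]
      (g : Spec (CommRingCat.of V) ⟶ Y), IsSSubtrusive (pullback.snd f g)) : HasLifts f := by
  intro V _ _ _ g
  obtain ⟨x, x', hx, hxy, hxy'⟩ := hf V g (genPt_specializes (clPt V))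
  exact exists_lift_of_pair f g ⟨x, x', hx, hxy, hxy'⟩

theorem univSSubtrusive_iff_hasLifts {f : X ⟶ Y} : UnivSSubtrusive f ↔ HasLifts f :=
  ⟨fun h => hasLifts_of_forall_isSSubtrusive fun _ _ _ _ g => isSSubtrusive_pullback_snd h g,
    univSSubtrusive_of_hasLifts⟩

theorem univSSubtrusive_of_comp (h : X ⟶ Y) (f : Y ⟶ Z) (hf : UnivSSubtrusive (h ≫ f)) :
    UnivSSubtrusive f := by
  rw [univSSubtrusive_iff_hasLifts] at hf ⊢
  intro V _ _ _ g
  obtain ⟨W, iC, iD, iV, a, b, hb, hab⟩ := hf V g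
  exact ⟨W, iC, iD, iV, a ≫ h, b, hb, by rw [Category.assoc, hab]⟩

theorem univSSubtrusive_comp {h : X ⟶ Y} {f : Y ⟶ Z} (hh : UnivSSubtrusive h)
    (hf : UnivSSubtrusive f) : UnivSSubtrusive (h ≫ f) := by
  rw [univSSubtrusive_iff_hasLifts] at hh hf ⊢
  intro V _ _ _ g
  obtain ⟨W, iC, iD, iV, a, b, hb, hab⟩ := hf V g
  obtain ⟨W', iC', iD', iV', a', b', hb', hab'⟩ := hh W a
  refine ⟨W', iC', iD', iV', a', b' ≫ b, inferInstance, ?_⟩
  rw [← Category.assoc, hab', Category.assoc, hab, Category.assoc]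

theorem univSSubtrusive_of_flat (f : X ⟶ Y) [Flat f] [Surjective f] : UnivSSubtrusive f := by
  intro X' Y' i₁ i₂ f' h
  have : Flat f' := MorphismProperty.of_isPullback h.flip ‹Flat f›
  have : Surjective f' := MorphismProperty.of_isPullback h.flip ‹Surjective f›
  exact isSSubtrusive_of_generalizingMap (Flat.generalizingMap f') f'.surjective

theorem univSSubtrusive_of_universallyClosed (f : X ⟶ Y) [UniversallyClosed f] [Surjective f] :
    UnivSSubtrusive f := by
  intro X' Y' i₁ i₂ f' h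
  have : UniversallyClosed f' := MorphismProperty.of_isPullback h.flip ‹UniversallyClosed f›
  have : Surjective f' := MorphismProperty.of_isPullback h.flip ‹Surjective f›
  exact isSSubtrusive_of_specializingMap f'.isClosedMap.specializingMap f'.surjective

/-- A point in the closure of the generic fibre over a domain generizes to a point of it. -/
theorem exists_generization_of_mem_closure {V : Type u} [CommRing V] [IsDomain V]
    (f : X ⟶ Spec (CommRingCat.of V)) {x : X} (h : x ∈ closure (f ⁻¹' {genPt V})) :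
    ∃ x' : X, x' ⤳ x ∧ f x' = genPt V := by
  obtain ⟨U, hU, hxU, -⟩ := exists_isAffineOpen_mem_and_subset (x := x) (U := ⊤) trivial
  obtain ⟨φ, hφ⟩ := Spec.map_surjective (hU.fromSpec ≫ f)
  obtain ⟨p, rfl⟩ : x ∈ Set.range hU.fromSpec := by rwa [hU.range_fromSpec]
  have := (p : PrimeSpectrum Γ(X, U)).isPrime
  have key : ∀ q : Spec Γ(X, U), f (hU.fromSpec q) = genPt V ↔
      Ideal.comap φ.hom (q : PrimeSpectrum Γ(X, U)).asIdeal = ⊥ := by
    intro q
    rw [← Scheme.Hom.comp_apply, ← hφ]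
    exact PrimeSpectrum.ext_iff
  let S : Submonoid Γ(X, U) := (p : PrimeSpectrum Γ(X, U)).asIdeal.primeCompl ⊔
    (nonZeroDivisors V).map φ.hom
  by_cases h0 : (0 : Γ(X, U)) ∈ S
  · exfalso
    obtain ⟨t, ht, z, ⟨s, hs, rfl⟩, hts⟩ := Submonoid.mem_sup.mp h0
    have hop : IsOpen (hU.fromSpec '' (PrimeSpectrum.basicOpen t : Set (PrimeSpectrum Γ(X, U)))) :=
      hU.fromSpec.isOpenEmbedding.isOpenMap _ (PrimeSpectrum.basicOpen t).isOpen
    obtain ⟨_, ⟨q, hq, rfl⟩, hfq⟩ := mem_closure_iff.mp h _ hop ⟨p, ht, rfl⟩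
    rcases (q : PrimeSpectrum Γ(X, U)).2.mem_or_mem
      (hts ▸ (q : PrimeSpectrum Γ(X, U)).asIdeal.zero_mem :
        t * φ.hom s ∈ (q : PrimeSpectrum Γ(X, U)).asIdeal) with h1 | h1
    · exact hq h1
    · exact nonZeroDivisors.ne_zero hs (Ideal.mem_bot.mp ((key q).mp hfq ▸ h1))
  · obtain ⟨q, hq, -, hqd⟩ := Ideal.exists_le_prime_disjoint (⊥ : Ideal Γ(X, U)) S
      (Set.disjoint_left.mpr fun a ha ha' => h0 (Ideal.mem_bot.mp ha ▸ ha'))
    refine ⟨hU.fromSpec ⟨q, hq⟩, Specializes.map ((PrimeSpectrum.le_iff_specializes _ _).mp ?_)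
      hU.fromSpec.continuous, (key _).mpr ?_⟩
    · intro a ha
      by_contra hap
      exact Set.disjoint_left.mp hqd ha (Submonoid.mem_sup_left hap)
    · refine eq_bot_iff.mpr fun s hs => ?_
      by_contra hs0
      exact Set.disjoint_left.mp hqd hs
        (Submonoid.mem_sup_right ⟨s, mem_nonZeroDivisors_of_ne_zero hs0, rfl⟩)

theorem univSSubtrusive_of_universallyOpen (f : X ⟶ Y) [UniversallyOpen f] [Surjective f] :
    UnivSSubtrusive f := by
  refine univSSubtrusive_of_hasLifts fun V _ _ _ g => exists_lift_of_pair f g ?_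
  obtain ⟨w, hw⟩ := (pullback.snd f g).surjective (clPt V)
  have hmem : w ∈ closure (pullback.snd f g ⁻¹' {genPt V}) := by
    rw [mem_closure_iff]
    intro o ho hwo
    have hopen : IsOpen (pullback.snd f g '' o) := (pullback.snd f g).isOpenMap o ho
    obtain ⟨z, hz, hzg⟩ :=
      (genPt_specializes (pullback.snd f g w)).mem_open hopen ⟨w, hwo, rfl⟩
    exact ⟨z, hz, hzg⟩
  obtain ⟨w', h1, h2⟩ := exists_generization_of_mem_closure _ hmem
  exact ⟨w, w', h1, hw, h2⟩

/-- A pair over the generic and closed points of a valuation ring gives universal lifting. -/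
theorem univSSubtrusive_of_pair {V : Type u} [CommRing V] [IsDomain V] [ValuationRing V]
    (f : X ⟶ Spec (CommRingCat.of V)) (h : ∃ x x' : X, x' ⤳ x ∧ f x = clPt V ∧ f x' = genPt V) :
    UnivSSubtrusive f := by
  obtain ⟨x, x', hx, hc, hg⟩ := h
  obtain ⟨W, iC, iD, iV, k, hk1, hk2⟩ := exists_valuationRing_of_specializes hx
  have hgen : (k ≫ f) (genPt W) = genPt V := by rw [Scheme.Hom.comp_apply, hk1, hg]
  have hcl : (k ≫ f) (clPt W) = clPt V := by rw [Scheme.Hom.comp_apply, hk2, hc]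
  obtain ⟨φ, hi, hl, he⟩ := exists_ringHom_of_endpoints (k ≫ f) hgen hcl
  have : Flat (k ≫ f) := he ▸ flat_specMap φ hi
  have : Surjective (k ≫ f) := surjective_of_endpoints _ hgen hcl
  exact univSSubtrusive_of_comp k f (univSSubtrusive_of_flat (k ≫ f))

end Groth.Agent.Lib.Subtrusive.Criterion
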