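import Groth.Prelude.Def_SGA1
import Groth.Agent.Lib.Subtrusive.Criterion
import Groth.Agent.Lib.Subtrusive.ClosedImage

/-!
Universally submersive versus universally S-subtrusive for quasi-compact morphisms.
-/

universe u

open CategoryTheory CategoryTheory.Limits AlgebraicGeometry Subtr
open Groth.Agent.Lib.Subtrusive.Valuation Groth.Agent.Lib.Subtrusive.Criterion

namespace Groth.Agent.Lib.Subtrusive.Submersive

variable {X Y Z : Scheme.{u}}

theorem isQuotientMap_of_univSubmersive {f : X ⟶ Y} (hf : SGA1.UnivSubmersive f) :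
    Topology.IsQuotientMap f :=
  MorphismProperty.universally_le
    (P := AlgebraicGeometry.topologically fun f => Topology.IsQuotientMap f) f hf

theorem isQuotientMap_pullback_snd {f : X ⟶ Y} (hf : SGA1.UnivSubmersive f) (g : Z ⟶ Y) :
    Topology.IsQuotientMap (pullback.snd f g) :=
  hf _ _ _ (IsPullback.of_hasPullback f g).flip

theorem univSubmersive_of_isPullback {P : Scheme.{u}} {p : P ⟶ X} {q : P ⟶ Z} {f : X ⟶ Y}
    {g : Z ⟶ Y} (h : IsPullback p q f g) (hf : SGA1.UnivSubmersive f) : SGA1.UnivSubmersive q :=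
  fun _ _ i₁ i₂ f' h' => hf (i₁ ≫ p) (i₂ ≫ g) f' (h'.paste_vert h.flip)

theorem isQuotientMap_of_isSSubtrusive (f : X ⟶ Y) [QuasiCompact f] (hf : IsSSubtrusive f) :
    Topology.IsQuotientMap f := by
  rw [Topology.isQuotientMap_iff]
  refine ⟨.of_isOpen_preimage_iff_isOpen fun W =>
    ⟨fun h => ?_, fun h => h.preimage f.continuous⟩, surjective_of_isSSubtrusive hf⟩
  refine ClosedImage.isOpen_of_preimage f (surjective_of_isSSubtrusive hf) h ?_
  intro y y' hy hyW
  obtain ⟨x, x', hx, rfl, rfl⟩ := hf hy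
  exact hx.mem_open h hyW

theorem univSubmersive_of_univSSubtrusive (f : X ⟶ Y) [QuasiCompact f] (hf : UnivSSubtrusive f) :
    SGA1.UnivSubmersive f := by
  intro X' Y' i₁ i₂ f' h
  have : QuasiCompact f' := MorphismProperty.of_isPullback h.flip ‹QuasiCompact f›
  exact isQuotientMap_of_isSSubtrusive f' (isSSubtrusive_of_univ (univSSubtrusive_of_isPullback h.flip hf))

theorem univSubmersive_of_valuation (f : X ⟶ Y) [QuasiCompact f]
    (hf : ∀ (V : Type u) [CommRing V] [IsDomain V] [ValuationRing V]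
      (g : Spec (CommRingCat.of V) ⟶ Y), Topology.IsQuotientMap (pullback.snd f g)) :
    SGA1.UnivSubmersive f := by
  intro X' Y' i₁ i₂ f' h
  have : QuasiCompact f' := MorphismProperty.of_isPullback h.flip ‹QuasiCompact f›
  have hs : Function.Surjective f' := by
    intro y
    obtain ⟨V, iC, iD, iV, g, hg1, -⟩ := exists_valuationRing_of_specializes (specializes_refl y)
    obtain ⟨z, hz⟩ := (hf V (g ≫ i₂)).surjective (genPt V)
    refine ⟨h.lift (pullback.snd f (g ≫ i₂) ≫ g) (pullback.fst f (g ≫ i₂))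
      (by rw [pullback.condition, Category.assoc]) z, ?_⟩
    rw [← Scheme.Hom.comp_apply, h.lift_fst, Scheme.Hom.comp_apply, hz, hg1]
  show Topology.IsQuotientMap f'
  rw [Topology.isQuotientMap_iff]
  refine ⟨.of_isOpen_preimage_iff_isOpen fun W =>
    ⟨fun hW => ?_, fun hW => hW.preimage f'.continuous⟩, hs⟩
  refine ClosedImage.isOpen_of_preimage f' hs hW ?_
  intro y y' hy hyW
  obtain ⟨V, iC, iD, iV, g, hg1, hg2⟩ := exists_valuationRing_of_specializes hy
  have hop : IsOpen (g ⁻¹' W) := by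
    apply (hf V (g ≫ i₂)).isOpen_preimage.mp
    let k := h.lift (pullback.snd f (g ≫ i₂) ≫ g) (pullback.fst f (g ≫ i₂))
      (by rw [pullback.condition, Category.assoc])
    have e : pullback.snd f (g ≫ i₂) ⁻¹' (g ⁻¹' W) = k ⁻¹' (f' ⁻¹' W) := by
      ext z
      show g (pullback.snd f (g ≫ i₂) z) ∈ W ↔ f' (k z) ∈ W
      rw [← Scheme.Hom.comp_apply k f', h.lift_fst, Scheme.Hom.comp_apply]
    rw [e]
    exact hW.preimage k.continuous
  have := (genPt_specializes (clPt V)).mem_open hop (show g (clPt V) ∈ W by rwa [hg2])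
  rwa [Set.mem_preimage, hg1] at this

theorem isSSubtrusive_of_isQuotientMap_dvr {V : Type u} [CommRing V] [IsDomain V]
    [IsDiscreteValuationRing V] (f : X ⟶ Spec (CommRingCat.of V)) (hq : Topology.IsQuotientMap f) :
    IsSSubtrusive f := by
  have htwo : ∀ p : Spec (CommRingCat.of V), p = genPt V ∨ p = clPt V := by
    intro p
    by_cases h : (p : PrimeSpectrum V).asIdeal = ⊥
    · exact Or.inl (PrimeSpectrum.ext h)
    · exact Or.inr (PrimeSpectrum.ext
        (IsLocalRing.eq_maximalIdeal ((p : PrimeSpectrum V).isPrime.isMaximal h)))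
  have hne : genPt V ≠ clPt V := fun h =>
    IsDiscreteValuationRing.not_a_field V (congrArg PrimeSpectrum.asIdeal h).symm
  obtain ⟨x, x', hx, hxc, hxg⟩ : ∃ x x' : X, x' ⤳ x ∧ f x = clPt V ∧ f x' = genPt V := by
    by_contra hcon
    have hclosed : IsClosed (f ⁻¹' {genPt V}) := by
      refine closure_subset_iff_isClosed.mp fun x hx => ?_
      obtain ⟨x', h1, h2⟩ := exists_generization_of_mem_closure f hx
      exact (htwo (f x)).elim id fun h => absurd ⟨x, x', h1, h, h2⟩ hcon
    rw [hq.isClosed_preimage] at hclosed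
    exact hne ((genPt_specializes (clPt V)).mem_closed hclosed rfl).symm
  intro y y' h
  rcases htwo y with rfl | rfl
  · exact ⟨x', x', specializes_refl _, hxg, (eq_genPt_of_specializes h) ▸ hxg⟩
  · rcases htwo y' with rfl | rfl
    · exact ⟨x, x', hx, hxc, hxg⟩
    · exact ⟨x, x, specializes_refl _, hxc, hxc⟩

end Groth.Agent.Lib.Subtrusive.Submersive
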