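import Groth.Agent.Lib.Subtrusive.AffineSpace
import Groth.Agent.Lib.Subtrusive.Submersive
import Groth.Agent.H46.DvrScheme
import Mathlib.AlgebraicGeometry.Noetherian

/-!
Over a locally Noetherian base universally submersive quasi-compact morphisms are universally
S-subtrusive.
-/

universe u

open CategoryTheory CategoryTheory.Limits AlgebraicGeometry Subtr
open Groth.Agent.Lib.Subtrusive.Valuation Groth.Agent.Lib.Subtrusive.Criterion

namespace Groth.Agent.Lib.Subtrusive.Noetherian

variable {X Y : Scheme.{u}}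

theorem exists_dvr_of_specializes [IsLocallyNoetherian Y] {y' y : Y} (h : y' ⤳ y) (hne : y' ≠ y) :
    ∃ (A : Type u) (_ : CommRing A) (_ : IsDomain A) (_ : IsDiscreteValuationRing A)
      (g : Spec (CommRingCat.of A) ⟶ Y), g (genPt A) = y' ∧ g (clPt A) = y := by
  obtain ⟨A, iC, iD, iV, g, hc, hg⟩ := Groth.Agent.H46.DvrScheme.exists_dvr_of_specializes h hne
  have hgen : genericPoint (Spec (CommRingCat.of A)) = genPt A :=
    (genericPoint_spec _).eq (isGenericPoint_iff_specializes.2 fun z =>
      ⟨fun _ => trivial, fun _ => genPt_specializes z⟩)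
  exact ⟨A, iC, iD, iV, g, hgen ▸ hg, hc⟩

theorem isSSubtrusive_of_univSubmersive [IsLocallyNoetherian Y] (f : X ⟶ Y)
    (hf : SGA1.UnivSubmersive f) : IsSSubtrusive f := by
  intro y y' h
  by_cases hne : y' = y
  · obtain ⟨x, hx⟩ := (Submersive.isQuotientMap_of_univSubmersive hf).surjective y
    exact ⟨x, x, specializes_refl _, hx, by rw [hne, hx]⟩
  obtain ⟨A, iC, iD, iV, g, hg1, hg2⟩ := exists_dvr_of_specializes h hne
  obtain ⟨w, w', hw, hwc, hwg⟩ := Submersive.isSSubtrusive_of_isQuotientMap_dvr _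
    (Submersive.isQuotientMap_pullback_snd hf g) (genPt_specializes (clPt A))
  refine ⟨pullback.fst f g w, pullback.fst f g w', hw.map (pullback.fst f g).continuous, ?_, ?_⟩
  · rw [← Scheme.Hom.comp_apply, pullback.condition, Scheme.Hom.comp_apply, hwc, hg2]
  · rw [← Scheme.Hom.comp_apply, pullback.condition, Scheme.Hom.comp_apply, hwg, hg1]

theorem univSSubtrusive_of_univSubmersive [IsLocallyNoetherian Y] (f : X ⟶ Y) [QuasiCompact f]
    (hf : SGA1.UnivSubmersive f) : UnivSSubtrusive f := by
  refine univSSubtrusive_of_hasLifts (AffineSpace.hasLifts_of_affineSpace f fun n _ => ?_)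
  have : IsLocallyNoetherian (AlgebraicGeometry.AffineSpace (ULift.{u} (Fin n)) Y) :=
    LocallyOfFiniteType.isLocallyNoetherian
      (AlgebraicGeometry.AffineSpace (ULift.{u} (Fin n)) Y ↘ Y)
  exact isSSubtrusive_of_univSubmersive _
    (Submersive.univSubmersive_of_isPullback (IsPullback.of_hasPullback _ _) hf)

theorem univSubmersive_iff [IsLocallyNoetherian Y] (f : X ⟶ Y) [QuasiCompact f] :
    SGA1.UnivSubmersive f ↔ UnivSSubtrusive f :=
  ⟨univSSubtrusive_of_univSubmersive f, Submersive.univSubmersive_of_univSSubtrusive f⟩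

end Groth.Agent.Lib.Subtrusive.Noetherian
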