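import Groth.Prelude.Def_HTop
import Groth.Agent.Lib.Subtrusive.Criterion
import Mathlib.AlgebraicGeometry.Limits

/-!
V coverings: valuative lifting for families and stability properties.
-/

universe w w' w'' u

open CategoryTheory CategoryTheory.Limits AlgebraicGeometry HTop
open Groth.Agent.Lib.Subtrusive.Valuation Groth.Agent.Lib.Subtrusive.Criterion

namespace Groth.Agent.Lib.Subtrusive.VCover

variable {T U Z : Scheme.{u}}

/-- Lifting of valuation rings along a family, stated with surjective maps of spectra. -/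
def LiftsFam (E : PreZeroHypercover.{w} T) : Prop :=
  ∀ (V : Type u) [CommRing V] [IsDomain V] [ValuationRing V]
    (g : Spec (CommRingCat.of V) ⟶ T),
    ∃ (V' : Type u) (_ : CommRing V') (_ : IsDomain V') (_ : ValuationRing V')
      (j : E.I₀) (a : Spec (CommRingCat.of V') ⟶ E.X j)
      (b : Spec (CommRingCat.of V') ⟶ Spec (CommRingCat.of V)),
      Surjective b ∧ a ≫ E.f j = b ≫ g

theorem hasValLift_iff (E : PreZeroHypercover.{w} T) : HasValLift E ↔ LiftsFam E := by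
  constructor
  · intro h V iC iD iV g
    obtain ⟨W, iD', iV', φ, ⟨hinj, hloc⟩, j, a, ha⟩ := h (CommRingCat.of V) g
    refine ⟨W, inferInstance, iD', iV', j, a, Spec.map φ, ?_, ha⟩
    exact surjective_specMap φ.hom hinj
  · intro h V iD iV g
    obtain ⟨W, iC', iD', iV', j, a, b, hb, hab⟩ := h V g
    obtain ⟨φ, hi, hl, rfl⟩ := exists_ringHom_of_endpoints b (surjective_apply_genPt b)
      (surjective_apply_clPt b)
    exact ⟨CommRingCat.of W, iD', iV', CommRingCat.ofHom φ, ⟨hi, hl⟩, j, a, hab⟩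

theorem liftsFam_singleton_iff {X : Scheme.{u}} (f : X ⟶ T) :
    LiftsFam (PreZeroHypercover.singleton.{w} f) ↔ HasLifts f := by
  constructor
  · intro h V _ _ _ g
    obtain ⟨W, iC', iD', iV', j, a, b, hb, hab⟩ := h V g
    exact ⟨W, iC', iD', iV', a, b, hb, hab⟩
  · intro h V _ _ _ g
    obtain ⟨W, iC', iD', iV', a, b, hb, hab⟩ := h V g
    exact ⟨W, iC', iD', iV', PUnit.unit, a, b, hb, hab⟩

/-- A morphism from a local spectrum lands in any open containing the image of the closed point. -/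
theorem exists_factor {W : Type u} [CommRing W] [IsLocalRing W] (a : Spec (CommRingCat.of W) ⟶ T)
    (k : U ⟶ T) [IsOpenImmersion k] (h : a (clPt W) ∈ Set.range k) :
    ∃ a' : Spec (CommRingCat.of W) ⟶ U, a' ≫ k = a :=
  ⟨IsOpenImmersion.lift k a (by
    rintro _ ⟨p, rfl⟩
    exact ((specializes_clPt p).map a.continuous).mem_open k.isOpenEmbedding.isOpen_range h),
    IsOpenImmersion.lift_fac _ _ _⟩

theorem hasLifts_sigmaDesc_iff (E : PreZeroHypercover.{w} T) [Small.{u} E.I₀] :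
    HasLifts (Sigma.desc E.f) ↔ LiftsFam E := by
  constructor
  · intro h V _ _ _ g
    obtain ⟨W, iC', iD', iV', a, b, hb, hab⟩ := h V g
    obtain ⟨j, x, hx⟩ := (sigmaOpenCover E.X).exists_eq (a (clPt W))
    obtain ⟨a', ha'⟩ := exists_factor a (Sigma.ι E.X j) ⟨x, hx⟩
    refine ⟨W, iC', iD', iV', j, a', b, hb, ?_⟩
    rw [← hab, ← ha', Category.assoc]
    exact congrArg (a' ≫ ·) (Sigma.ι_desc E.f j).symm
  · intro h V _ _ _ g
    obtain ⟨W, iC', iD', iV', j, a, b, hb, hab⟩ := h V g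
    exact ⟨W, iC', iD', iV', a ≫ Sigma.ι E.X j, b, hb, by rw [Category.assoc, Sigma.ι_desc, hab]⟩

theorem liftsFam_pullback₁ (g : U ⟶ T) (E : PreZeroHypercover.{w} T) (hE : LiftsFam E) :
    LiftsFam (E.pullback₁ g) := by
  intro V _ _ _ h
  obtain ⟨W, iC', iD', iV', j, a, b, hb, hab⟩ := hE V (h ≫ g)
  exact ⟨W, iC', iD', iV', j, pullback.lift (b ≫ h) a (by rw [Category.assoc, hab]), b, hb,
    pullback.lift_fst _ _ _⟩

theorem liftsFam_bind (E : PreZeroHypercover.{w} T) (hE : LiftsFam E)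
    (F : ∀ i, PreZeroHypercover.{w'} (E.X i)) (hF : ∀ i, LiftsFam (F i)) :
    LiftsFam (E.bind F) := by
  intro V _ _ _ g
  obtain ⟨W, iC', iD', iV', i, a, b, hb, hab⟩ := hE V g
  obtain ⟨W', iC'', iD'', iV'', j, a', b', hb', hab'⟩ := hF i W a
  refine ⟨W', iC'', iD'', iV'', ⟨i, j⟩, a', b' ≫ b, inferInstance, ?_⟩
  show a' ≫ (F i).f j ≫ E.f i = _
  rw [reassoc_of% hab', hab, Category.assoc]

theorem liftsFam_of_refinesOver_id {E : PreZeroHypercover.{w} T} {F : PreZeroHypercover.{w'} T}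
    (h : RefinesOver (𝟙 T) F E) (hF : LiftsFam F) : LiftsFam E := by
  intro V _ _ _ g
  obtain ⟨W, iC', iD', iV', j, a, b, hb, hab⟩ := hF V g
  obtain ⟨i, k, hk⟩ := h j
  exact ⟨W, iC', iD', iV', i, a ≫ k, b, hb, by rw [Category.assoc, hk, Category.comp_id, hab]⟩

/-- If the members of `F` are open pieces of the members of `E` covering everything over `U`,
lifting descends from `E` to `F`. -/
theorem liftsFam_of_cover {E : PreZeroHypercover.{w} T} (hE : LiftsFam E) (ι : U ⟶ T) [Mono ι]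
    (F : PreZeroHypercover.{w'} U)
    (hcov : ∀ (i : E.I₀) (x : E.X i), E.f i x ∈ Set.range ι →
      ∃ (j : F.I₀) (k : F.X j ⟶ E.X i), IsOpenImmersion k ∧ k ≫ E.f i = F.f j ≫ ι ∧
        x ∈ Set.range k) :
    LiftsFam F := by
  intro V _ _ _ g
  obtain ⟨W, iC', iD', iV', i, a, b, hb, hab⟩ := hE V (g ≫ ι)
  obtain ⟨j, k, hk, hke, hx⟩ := hcov i (a (clPt W)) (by
    rw [← Scheme.Hom.comp_apply, hab, Scheme.Hom.comp_apply, Scheme.Hom.comp_apply]
    exact ⟨_, rfl⟩)
  obtain ⟨a', ha'⟩ := exists_factor a k hx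
  refine ⟨W, iC', iD', iV', j, a', b, hb, ?_⟩
  rw [← cancel_mono ι, Category.assoc, ← hke, reassoc_of% ha', hab, Category.assoc]

theorem liftsFam_of_openImmersion (E : PreZeroHypercover.{w} T) (h : ∀ i, IsOpenImmersion (E.f i))
    (hs : ∀ t : T, ∃ i x, E.f i x = t) : LiftsFam E := by
  intro V _ _ _ g
  obtain ⟨i, x, hx⟩ := hs (g (clPt V))
  have := h i
  obtain ⟨a, ha⟩ := exists_factor g (E.f i) ⟨x, hx⟩
  exact ⟨V, inferInstance, inferInstance, inferInstance, i, a, 𝟙 _, inferInstance,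
    by rw [ha, Category.id_comp]⟩

theorem liftsFam_of_flat (E : PreZeroHypercover.{w} T) (h : ∀ i, Flat (E.f i))
    (hs : ∀ t : T, ∃ i x, E.f i x = t) : LiftsFam E := by
  intro V _ _ _ g
  obtain ⟨i, x, hx⟩ := hs (g (clPt V))
  have := h i
  obtain ⟨z, -, hz⟩ := Scheme.Pullback.exists_preimage_pullback (f := E.f i) (g := g) x (clPt V) hx
  obtain ⟨z', hz', hzg⟩ := Flat.generalizingMap (pullback.snd (E.f i) g)
    (show genPt V ⤳ pullback.snd (E.f i) g z by rw [hz]; exact genPt_specializes _)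
  obtain ⟨W, iC', iD', iV', a, b, hb, hab⟩ := exists_lift_of_pair (E.f i) g ⟨z, z', hz', hz, hzg⟩
  exact ⟨W, iC', iD', iV', i, a, b, hb, hab⟩

theorem isStandardV_of_liftsFam [IsAffine T] (E : PreZeroHypercover.{w} T) [Finite E.I₀]
    (hA : ∀ j, IsAffine (E.X j)) (hL : LiftsFam E) : IsStandardV E :=
  ⟨inferInstance, inferInstance, hA, (hasValLift_iff E).mpr hL⟩

theorem isStandardV_pullback₁ [IsAffine U] (g : U ⟶ T) {E : PreZeroHypercover.{w} T}
    (hE : IsStandardV E) : IsStandardV (E.pullback₁ g) := by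
  have := hE.finite_index
  have : Finite (E.pullback₁ g).I₀ := hE.finite_index
  have := hE.isAffine
  refine isStandardV_of_liftsFam _ (fun j => ?_)
    (liftsFam_pullback₁ g E ((hasValLift_iff E).mp hE.lift))
  have := hE.isAffine_obj j
  exact inferInstanceAs (IsAffine (pullback g (E.f j)))

theorem isStandardV_bind {E : PreZeroHypercover.{w} T} (hE : IsStandardV E)
    {F : ∀ i, PreZeroHypercover.{w'} (E.X i)} (hF : ∀ i, IsStandardV (F i)) :
    IsStandardV (E.bind F) := by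
  have := hE.isAffine
  have := hE.finite_index
  have := fun i => (hF i).finite_index
  have : Finite (E.bind F).I₀ := inferInstanceAs (Finite (Σ i, (F i).I₀))
  exact isStandardV_of_liftsFam _ (fun j => (hF j.1).isAffine_obj j.2)
    (liftsFam_bind E ((hasValLift_iff E).mp hE.lift) F fun i => (hasValLift_iff _).mp (hF i).lift)

theorem exists_reindex {g : U ⟶ T} {F : PreZeroHypercover.{w'} U} {E : PreZeroHypercover.{w} T}
    (hF : IsStandardV F) (hr : RefinesOver g F E) :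
    ∃ F' : PreZeroHypercover.{0} U, IsStandardV F' ∧ RefinesOver g F' E := by
  have := hF.isAffine
  have := hF.finite_index
  obtain ⟨n, ⟨e⟩⟩ := Finite.exists_equiv_fin F.I₀
  refine ⟨F.restrictIndex (fun i : Fin n => e.symm i), ?_, fun j => hr (e.symm j)⟩
  have : Finite (F.restrictIndex fun i : Fin n => e.symm i).I₀ := inferInstanceAs (Finite (Fin n))
  refine isStandardV_of_liftsFam _ (fun j => hF.isAffine_obj (e.symm j)) ?_
  refine liftsFam_of_refinesOver_id (F := F) (fun j => ⟨e j, ?_⟩)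
    ((hasValLift_iff F).mp hF.lift)
  have : ∀ k, k = j → ∃ q : F.X j ⟶ F.X k, q ≫ F.f k = F.f j := by
    rintro k rfl
    exact ⟨𝟙 _, Category.id_comp _⟩
  obtain ⟨q, hq⟩ := this _ (e.symm_apply_apply j)
  exact ⟨q, hq.trans (Category.comp_id _).symm⟩

theorem isVCover_of_exists {E : PreZeroHypercover.{w} T}
    (h : ∀ U : T.affineOpens, ∃ F : PreZeroHypercover.{w'} ((U : T.Opens) : Scheme.{u}),
      IsStandardV F ∧ RefinesOver (U : T.Opens).ι F E) : IsVCover E :=
  fun U => by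
    obtain ⟨F, hF, hr⟩ := h U
    exact exists_reindex hF hr

theorem liftsFam_of_isVCover {E : PreZeroHypercover.{w} T} (hE : IsVCover E) : LiftsFam E := by
  intro V _ _ _ g
  obtain ⟨O, hO, hmem, -⟩ := exists_isAffineOpen_mem_and_subset (x := g (clPt V)) (U := ⊤) trivial
  obtain ⟨F, hF, hr⟩ := hE ⟨O, hO⟩
  obtain ⟨g', hg'⟩ := exists_factor g O.ι (by rw [Scheme.Opens.range_ι]; exact hmem)
  obtain ⟨W, iC', iD', iV', j, a, b, hb, hab⟩ := (hasValLift_iff F).mp hF.lift V g'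
  obtain ⟨i, k, hk⟩ := hr j
  refine ⟨W, iC', iD', iV', i, a ≫ k, b, hb, ?_⟩
  rw [Category.assoc, hk, reassoc_of% hab, hg']

/-- A V covering is refined over every affine scheme mapping to the base by a standard one. -/
theorem exists_standard_refining [IsAffine Z] {E : PreZeroHypercover.{w} T} (hE : IsVCover E)
    (g : Z ⟶ T) : ∃ F : PreZeroHypercover.{0} Z, IsStandardV F ∧ RefinesOver g F E := by
  have hz : ∀ z : Z, ∃ (O : Z.Opens) (P : T.affineOpens), IsAffineOpen O ∧ z ∈ O ∧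
      O ≤ g ⁻¹ᵁ P.1 := fun z => by
    obtain ⟨P, hP, hgz, -⟩ := exists_isAffineOpen_mem_and_subset (x := g z) (U := ⊤) trivial
    obtain ⟨O, hO, hzO, hle⟩ := exists_isAffineOpen_mem_and_subset (x := z) (U := g ⁻¹ᵁ P) hgz
    exact ⟨O, ⟨P, hP⟩, hO, hzO, hle⟩
  choose O P hO hzO hle using hz
  obtain ⟨s, hs⟩ := isCompact_univ.elim_finite_subcover (fun z => (O z : Set Z))
    (fun z => (O z).2) fun z _ => Set.mem_iUnion.mpr ⟨z, hzO z⟩
  let C : PreZeroHypercover.{u} Z :=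
    { I₀ := (s : Type u), X := fun z => (O z.1 : Scheme.{u}), f := fun z => (O z.1).ι }
  have : Finite C.I₀ := inferInstanceAs (Finite (s : Type u))
  have hC : IsStandardV C := by
    refine isStandardV_of_liftsFam C (fun z => hO z.1)
      (liftsFam_of_openImmersion C (fun z => inferInstanceAs (IsOpenImmersion (O z.1).ι)) fun t => ?_)
    obtain ⟨z, hz, ht⟩ := Set.mem_iUnion₂.mp (hs (Set.mem_univ t))
    exact ⟨⟨z, hz⟩, ⟨t, ht⟩, rfl⟩
  choose F hF hr using fun z : (s : Type u) => hE (P z.1)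
  have hG : IsStandardV (C.bind fun z => (F z).pullback₁ (g.resLE _ _ (hle z.1))) :=
    isStandardV_bind hC fun z => by
      have : IsAffine (C.X z) := hO z.1
      exact isStandardV_pullback₁ _ (hF z)
  refine exists_reindex hG ?_
  rintro ⟨z, j⟩
  obtain ⟨i, k, hk⟩ := hr z j
  refine ⟨i, pullback.snd (g.resLE _ _ (hle z.1)) ((F z).f j) ≫ k, ?_⟩
  show (pullback.snd _ _ ≫ k) ≫ E.f i = (pullback.fst _ _ ≫ (O z.1).ι) ≫ g
  rw [Category.assoc, hk, ← pullback.condition_assoc, Category.assoc, Scheme.Hom.resLE_comp_ι]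

theorem isVCover_pullback₁ (g : U ⟶ T) {E : PreZeroHypercover.{w} T} (hE : IsVCover E) :
    IsVCover (E.pullback₁ g) := by
  intro O
  have : IsAffine (O.1 : Scheme.{u}) := O.2
  obtain ⟨F, hF, hr⟩ := exists_standard_refining hE (O.1.ι ≫ g)
  refine ⟨F, hF, fun j => ?_⟩
  obtain ⟨i, k, hk⟩ := hr j
  exact ⟨i, pullback.lift (F.f j ≫ O.1.ι) k (by rw [hk, Category.assoc]), pullback.lift_fst _ _ _⟩

theorem isVCover_bind {E : PreZeroHypercover.{w} T} (hE : IsVCover E)
    {F : ∀ i, PreZeroHypercover.{w'} (E.X i)} (hF : ∀ i, IsVCover (F i)) :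
    IsVCover (E.bind F) := by
  intro O
  obtain ⟨G, hG, hr⟩ := hE O
  choose i k hk using hr
  have := fun j => hG.isAffine_obj j
  choose H hH hHr using fun j => exists_standard_refining (hF (i j)) (k j)
  refine exists_reindex (isStandardV_bind hG hH) ?_
  rintro ⟨j, l⟩
  obtain ⟨m, q, hq⟩ := hHr j l
  refine ⟨⟨i j, m⟩, q, ?_⟩
  show q ≫ (F (i j)).f m ≫ E.f (i j) = ((H j).f l ≫ G.f j) ≫ O.1.ι
  rw [reassoc_of% hq, hk, Category.assoc]

/-- A V covering criterion: lifting plus enough finitely many affine pieces. -/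
theorem isVCover_of_liftsFam {E : PreZeroHypercover.{w} T} (hE : LiftsFam E)
    (hfin : ∀ O : T.affineOpens, ∃ (s : Set E.I₀), s.Finite ∧
      (∀ i ∈ s, IsCompact ((E.f i ⁻¹ᵁ O.1 : (E.X i).Opens) : Set (E.X i))) ∧
      ∀ i ∉ s, ((E.f i ⁻¹ᵁ O.1 : (E.X i).Opens) : Set (E.X i)) = ∅) : IsVCover E := by
  refine fun O => ?_
  obtain ⟨s, hs, hc, hemp⟩ := hfin O
  have hcov : ∀ i : s, ∃ t : Set (E.X i.1).affineOpens, t.Finite ∧
      ((E.f i.1 ⁻¹ᵁ O.1 : (E.X i.1).Opens) : Set (E.X i.1)) = ⋃ V ∈ t, (V.1 : Set (E.X i.1)) := by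
    intro i
    obtain ⟨t, ht, he⟩ := isCompact_iff_finite_and_eq_biUnion_affineOpens.mp (hc i.1 i.2)
    refine ⟨t, ht, ?_⟩
    rw [he]
    simp
  choose t ht he using hcov
  have := hs.to_subtype
  have := fun i => (ht i).to_subtype
  let F : PreZeroHypercover.{max w u} (O.1 : Scheme.{u}) :=
    { I₀ := Σ i : s, t i
      X := fun p => (p.2.1.1 : Scheme.{u})
      f := fun p => (E.f p.1.1).resLE O.1 p.2.1.1 (fun x hx => by
        show x ∈ ((E.f p.1.1 ⁻¹ᵁ O.1 : (E.X p.1.1).Opens) : Set (E.X p.1.1))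
        rw [he]
        exact Set.mem_iUnion₂.mpr ⟨p.2.1, p.2.2, hx⟩) }
  have : Finite F.I₀ := inferInstanceAs (Finite (Σ i : s, t i))
  have : IsAffine (O.1 : Scheme.{u}) := O.2
  refine exists_reindex (F := F) (isStandardV_of_liftsFam F (fun p => p.2.1.2) ?_) ?_
  · refine liftsFam_of_cover hE O.1.ι F fun i x hx => ?_
    rw [Scheme.Opens.range_ι] at hx
    have hi : i ∈ s := by
      by_contra hi
      exact (Set.eq_empty_iff_forall_notMem.mp (hemp i hi) x) hx
    have hxu : x ∈ ⋃ V ∈ t ⟨i, hi⟩, (V.1 : Set (E.X i)) := (he ⟨i, hi⟩) ▸ hx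
    obtain ⟨V, hV, hxV⟩ := Set.mem_iUnion₂.mp hxu
    refine ⟨⟨⟨i, hi⟩, ⟨V, hV⟩⟩, V.1.ι, inferInstance, (Scheme.Hom.resLE_comp_ι _ _).symm, ?_⟩
    rw [Scheme.Opens.range_ι]
    exact hxV
  · rintro ⟨i, V⟩
    exact ⟨i.1, V.1.1.ι, (Scheme.Hom.resLE_comp_ι _ _).symm⟩

theorem isVCover_singleton_iff {X : Scheme.{u}} (f : X ⟶ T) [QuasiCompact f] :
    IsVCover (PreZeroHypercover.singleton.{w} f) ↔ HasLifts f := by
  rw [← liftsFam_singleton_iff.{w}]
  refine ⟨liftsFam_of_isVCover, fun h => isVCover_of_liftsFam h fun O =>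
    ⟨Set.univ, Set.toFinite _, fun _ _ => ?_, fun i hi => absurd (Set.mem_univ i) hi⟩⟩
  exact f.isCompact_preimage O.2.isCompact

end Groth.Agent.Lib.Subtrusive.VCover
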