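import Groth.Agent.Lib.Subtrusive.VCover
import Mathlib.AlgebraicGeometry.AffineSpace
import Mathlib.RingTheory.TensorProduct.DirectLimitFG
import Mathlib.RingTheory.FiniteType

/-!
For a quasi-compact morphism, universal S-subtrusiveness can be tested on affine spaces.
-/

universe u

open CategoryTheory CategoryTheory.Limits AlgebraicGeometry Subtr
open Groth.Agent.Lib.Subtrusive.Valuation Groth.Agent.Lib.Subtrusive.Criterion
open scoped TensorProduct

namespace Groth.Agent.Lib.Subtrusive.AffineSpace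

section Algebra

set_option linter.unusedSectionVars false

variable {R V A : Type u} [CommRing R] [CommRing V] [IsDomain V] [IsLocalRing V] [Algebra R V]
  [CommRing A] [Algebra R A]

/-- The map of tensor products induced by a subalgebra. -/
noncomputable abbrev mapVal (V₀ : Subalgebra R V) : V₀ ⊗[R] A →ₐ[R] V ⊗[R] A :=
  Algebra.TensorProduct.map V₀.val (AlgHom.id R A)

/-- The transition maps of tensor products of subalgebras. -/
noncomputable abbrev mapIncl {V₀ V₁ : Subalgebra R V} (h : V₀ ≤ V₁) :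
    V₀ ⊗[R] A →ₐ[R] V₁ ⊗[R] A :=
  Algebra.TensorProduct.map (Subalgebra.inclusion h) (AlgHom.id R A)

theorem mapVal_mapIncl {V₀ V₁ : Subalgebra R V} (h : V₀ ≤ V₁) (t : V₀ ⊗[R] A) :
    mapVal V₁ (mapIncl h t) = mapVal V₀ t := by
  induction t with
  | zero => simp
  | tmul a b => simp
  | add a b ha hb => simp [ha, hb]

theorem mapIncl_mapIncl {V₀ V₁ V₂ : Subalgebra R V} (h : V₀ ≤ V₁) (h' : V₁ ≤ V₂)
    (t : V₀ ⊗[R] A) : mapIncl h' (mapIncl h t) = mapIncl (h.trans h') t := by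
  induction t with
  | zero => simp
  | tmul a b => simp
  | add a b ha hb => simp [ha, hb]

theorem exists_lift (t : V ⊗[R] A) :
    ∃ V₀ : Subalgebra R V, V₀.FG ∧ ∃ t₀ : V₀ ⊗[R] A, mapVal V₀ t₀ = t := by
  obtain ⟨V₀, h, t₀, ht⟩ := TensorProduct.Algebra.exists_of_fg t
  exact ⟨V₀, h, t₀, ht⟩

theorem exists_eq {V₀ : Subalgebra R V} (h : V₀.FG) {a b : V₀ ⊗[R] A}
    (e : mapVal V₀ a = mapVal V₀ b) :
    ∃ (V₁ : Subalgebra R V) (hle : V₀ ≤ V₁), V₁.FG ∧ mapIncl hle a = mapIncl hle b :=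
  TensorProduct.Algebra.eq_of_fg_of_subtype_eq h e

/-- The contraction of the maximal ideal to a subalgebra. -/
def contr (V₀ : Subalgebra R V) : Ideal V₀ := (IsLocalRing.maximalIdeal V).comap V₀.val

/-- There is no pair of primes over the generic point and the contracted closed point. -/
def NoPair (A : Type u) [CommRing A] [Algebra R A] (V₀ : Subalgebra R V) : Prop :=
  ∀ q' q : Ideal (V₀ ⊗[R] A), q'.IsPrime → q.IsPrime → q' ≤ q →
    q'.comap (Algebra.TensorProduct.includeLeftRingHom : V₀ →+* V₀ ⊗[R] A) = ⊥ →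
    q.comap (Algebra.TensorProduct.includeLeftRingHom : V₀ →+* V₀ ⊗[R] A) = contr V₀ → False

theorem exists_lift_mem_map (u : V ⊗[R] A)
    (hu : u ∈ (IsLocalRing.maximalIdeal V).map
      (Algebra.TensorProduct.includeLeftRingHom : V →+* V ⊗[R] A)) :
    ∃ V₀ : Subalgebra R V, V₀.FG ∧ ∃ u₀ : V₀ ⊗[R] A, mapVal V₀ u₀ = u ∧
      u₀ ∈ (contr V₀).map (Algebra.TensorProduct.includeLeftRingHom : V₀ →+* V₀ ⊗[R] A) := by
  have hmono : ∀ {V₀ V₁ : Subalgebra R V} (h : V₀ ≤ V₁) {x : V₀ ⊗[R] A},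
      x ∈ (contr V₀).map (Algebra.TensorProduct.includeLeftRingHom : V₀ →+* V₀ ⊗[R] A) →
      mapIncl h x ∈
        (contr V₁).map (Algebra.TensorProduct.includeLeftRingHom : V₁ →+* V₁ ⊗[R] A) := by
    intro V₀ V₁ h x hx
    have := Ideal.mem_map_of_mem (mapIncl (A := A) h).toRingHom hx
    rw [Ideal.map_map] at this
    refine (Ideal.map_le_iff_le_comap.mpr fun a ha => ?_) this
    refine Ideal.mem_comap.mpr ?_
    show mapIncl h (a ⊗ₜ[R] (1 : A)) ∈ _
    rw [Algebra.TensorProduct.map_tmul, map_one]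
    exact Ideal.mem_map_of_mem _
      (show Subalgebra.inclusion h a ∈ contr V₁ from ha)
  induction hu using Submodule.span_induction with
  | mem x hx =>
    obtain ⟨m, hm, rfl⟩ := hx
    refine ⟨Algebra.adjoin R {m}, Subalgebra.fg_adjoin_finset {m} |>.imp fun s hs => by
      simpa using hs, (⟨m, Algebra.self_mem_adjoin_singleton R m⟩ : Algebra.adjoin R {m}) ⊗ₜ 1,
      by simp, Ideal.mem_map_of_mem _ (show m ∈ IsLocalRing.maximalIdeal V from hm)⟩
  | zero => exact ⟨⊥, Subalgebra.fg_bot, 0, map_zero _, Ideal.zero_mem _⟩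
  | add x y _ _ hx hy =>
    obtain ⟨V₁, h1, x₀, rfl, hx0⟩ := hx
    obtain ⟨V₂, h2, y₀, rfl, hy0⟩ := hy
    exact ⟨V₁ ⊔ V₂, h1.sup h2, mapIncl (A := A) (le_sup_left : V₁ ≤ V₁ ⊔ V₂) x₀ +
        mapIncl (A := A) (le_sup_right : V₂ ≤ V₁ ⊔ V₂) y₀,
      by rw [map_add, mapVal_mapIncl, mapVal_mapIncl], Ideal.add_mem _ (hmono _ hx0) (hmono _ hy0)⟩
  | smul b x _ hx =>
    obtain ⟨V₁, h1, x₀, rfl, hx0⟩ := hx
    obtain ⟨V₂, h2, b₀, rfl⟩ := exists_lift b
    exact ⟨V₁ ⊔ V₂, h1.sup h2, mapIncl (A := A) (le_sup_right : V₂ ≤ V₁ ⊔ V₂) b₀ *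
        mapIncl (A := A) (le_sup_left : V₁ ≤ V₁ ⊔ V₂) x₀,
      by rw [map_mul, mapVal_mapIncl, mapVal_mapIncl, smul_eq_mul],
      Ideal.mul_mem_left _ _ (hmono _ hx0)⟩

theorem exists_noPair
    (h : ∀ q' q : Ideal (V ⊗[R] A), q'.IsPrime → q.IsPrime → q' ≤ q →
      q'.comap (Algebra.TensorProduct.includeLeftRingHom : V →+* V ⊗[R] A) = ⊥ →
      q.comap (Algebra.TensorProduct.includeLeftRingHom : V →+* V ⊗[R] A) =
        IsLocalRing.maximalIdeal V → False) :
    ∃ V₀ : Subalgebra R V, V₀.FG ∧ ∀ V₁ : Subalgebra R V, V₀ ≤ V₁ → NoPair A V₁ := by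
  let inl : V →+* V ⊗[R] A := Algebra.TensorProduct.includeLeftRingHom
  let J : Ideal (V ⊗[R] A) :=
    { carrier := {t | ∃ s : V, s ≠ 0 ∧ inl s * t = 0}
      zero_mem' := ⟨1, one_ne_zero, mul_zero _⟩
      add_mem' := by
        rintro x y ⟨s, hs, hx⟩ ⟨t, ht, hy⟩
        exact ⟨s * t, mul_ne_zero hs ht, by
          rw [map_mul]; linear_combination inl t * hx + inl s * hy⟩
      smul_mem' := by
        rintro c x ⟨s, hs, hx⟩
        exact ⟨s, hs, by rw [smul_eq_mul]; linear_combination c * hx⟩ }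
  have htop : J ⊔ (IsLocalRing.maximalIdeal V).map inl = ⊤ := by
    by_contra hne
    obtain ⟨q, hq, hle⟩ := Ideal.exists_le_maximal _ hne
    have hqm : q.comap inl = IsLocalRing.maximalIdeal V :=
      ((IsLocalRing.maximalIdeal.isMaximal V).eq_of_le (Ideal.IsPrime.comap inl (hK := hq.isPrime)).ne_top
        (Ideal.map_le_iff_le_comap.mp (le_sup_right.trans hle))).symm
    have := hq.isPrime
    let S : Submonoid (V ⊗[R] A) := q.primeCompl ⊔ (nonZeroDivisors V).map inl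
    have hS : (0 : V ⊗[R] A) ∉ S := fun h0 => by
      obtain ⟨t, ht, z, ⟨s, hs, rfl⟩, hts⟩ := Submonoid.mem_sup.mp h0
      exact ht (hle (Submodule.mem_sup_left ⟨s, nonZeroDivisors.ne_zero hs, by rwa [mul_comm] at hts⟩))
    obtain ⟨q', hq', -, hd⟩ := Ideal.exists_le_prime_disjoint (⊥ : Ideal (V ⊗[R] A)) S
      (Set.disjoint_left.mpr fun a ha ha' => hS (Ideal.mem_bot.mp ha ▸ ha'))
    refine h q' q hq' hq.isPrime (fun a ha => ?_) (eq_bot_iff.mpr fun s hs => ?_) hqm
    · by_contra haq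
      exact Set.disjoint_left.mp hd ha (Submonoid.mem_sup_left haq)
    · by_contra hs0
      exact Set.disjoint_left.mp hd hs
        (Submonoid.mem_sup_right ⟨s, mem_nonZeroDivisors_of_ne_zero hs0, rfl⟩)
  obtain ⟨t, ⟨s, hs, hst⟩, u, hu, htu⟩ := Submodule.mem_sup.mp (htop ▸ Submodule.mem_top :
    (1 : V ⊗[R] A) ∈ J ⊔ (IsLocalRing.maximalIdeal V).map inl)
  obtain ⟨Va, hVa, t₀, rfl⟩ := exists_lift t
  obtain ⟨Vb, hVb, u₀, rfl, hu₀⟩ := exists_lift_mem_map u hu
  let Vs := Algebra.adjoin R {s}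
  have hVs : Vs.FG := Subalgebra.fg_adjoin_finset {s} |>.imp fun s hs => by simpa [Vs] using hs
  let V₂ := Va ⊔ Vb ⊔ Vs
  have ha : Va ≤ V₂ := le_sup_left.trans le_sup_left
  have hb : Vb ≤ V₂ := le_sup_right.trans le_sup_left
  have hsV : s ∈ V₂ := (le_sup_right : Vs ≤ V₂) (Algebra.self_mem_adjoin_singleton R s)
  have hV₂ : V₂.FG := (hVa.sup hVb).sup hVs
  obtain ⟨V₃, h23, hV₃, e1⟩ := exists_eq hV₂ (A := A)
    (a := ((⟨s, hsV⟩ : V₂) ⊗ₜ[R] (1 : A)) * mapIncl ha t₀) (b := 0)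
    (by rw [map_mul, mapVal_mapIncl, map_zero, Algebra.TensorProduct.map_tmul, map_one]; exact hst)
  obtain ⟨V₄, h34, hV₄, e2⟩ := exists_eq hV₃ (A := A)
    (a := mapIncl (ha.trans h23) t₀ + mapIncl (hb.trans h23) u₀) (b := 1)
    (by rw [map_add, mapVal_mapIncl, mapVal_mapIncl, map_one]; exact htu)
  refine ⟨V₄, hV₄, fun V₁ h41 q' q hq' hq hqq hbot hcl => ?_⟩
  have h24 := h23.trans (h34.trans h41)
  have e1' := congrArg (mapIncl (A := A) (h34.trans h41)) e1
  simp only [map_mul, map_zero, mapIncl_mapIncl, Algebra.TensorProduct.map_tmul, map_one] at e1'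
  have e2' := congrArg (mapIncl (A := A) h41) e2
  rw [map_add, map_one, map_add, map_one, mapIncl_mapIncl, mapIncl_mapIncl, mapIncl_mapIncl,
    mapIncl_mapIncl] at e2'
  have ht : mapIncl (ha.trans h24) t₀ ∈ q := by
    refine hqq ((hq'.mem_or_mem (e1' ▸ q'.zero_mem)).resolve_left fun h' => hs ?_)
    have h'' : Subalgebra.inclusion (h34.trans h41) (Subalgebra.inclusion h23 ⟨s, hsV⟩) ∈
        q'.comap (Algebra.TensorProduct.includeLeftRingHom : V₁ →+* V₁ ⊗[R] A) := h'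
    rw [hbot, Ideal.mem_bot] at h''
    exact congrArg Subtype.val h''
  have hu' : mapIncl (hb.trans h24) u₀ ∈ q := by
    have hle : (contr Vb).map
        (Algebra.TensorProduct.includeLeftRingHom : Vb →+* Vb ⊗[R] A) ≤
        q.comap (mapIncl (A := A) (hb.trans h24)).toRingHom := by
      refine Ideal.map_le_iff_le_comap.mpr fun a ha => ?_
      show mapIncl (hb.trans h24) (a ⊗ₜ[R] (1 : A)) ∈ q
      rw [Algebra.TensorProduct.map_tmul, map_one]
      have : Subalgebra.inclusion (hb.trans h24) a ∈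
          q.comap (Algebra.TensorProduct.includeLeftRingHom : V₁ →+* V₁ ⊗[R] A) := by
        rw [hcl]; exact ha
      exact this
    exact hle hu₀
  exact hq.ne_top ((Ideal.eq_top_iff_one q).mpr (e2' ▸ q.add_mem ht hu'))

end Algebra

variable {X Y P T : Scheme.{u}}

/-- S-subtrusiveness is inherited by base change along preimmersions. -/
theorem isSSubtrusive_of_preimmersion {P' T' : Scheme.{u}} {top : P' ⟶ P} {q' : P' ⟶ T'}
    {q : P ⟶ T} {k : T' ⟶ T} (h : IsPullback top q' q k) [IsPreimmersion k]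
    (hq : IsSSubtrusive q) : IsSSubtrusive q' := by
  have : IsPreimmersion top := MorphismProperty.of_isPullback h.flip ‹IsPreimmersion k›
  intro y y' hy
  obtain ⟨x, x', hx, hxy, hxy'⟩ := hq (hy.map k.continuous)
  have hlift : ∀ (x : P) (y : T'), q x = k y → ∃ z : P', top z = x ∧ q' z = y := by
    intro x y he
    obtain ⟨z, hz1, hz2⟩ := Scheme.Pullback.exists_preimage_pullback (f := q) (g := k) x y he
    refine ⟨h.isoPullback.inv z, ?_, ?_⟩
    · rw [← Scheme.Hom.comp_apply, h.isoPullback_inv_fst, hz1]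
    · rw [← Scheme.Hom.comp_apply, h.isoPullback_inv_snd, hz2]
  obtain ⟨z, hz1, hz2⟩ := hlift x y hxy
  obtain ⟨z', hz1', hz2'⟩ := hlift x' y' hxy'
  refine ⟨z, z', ?_, hz2, hz2'⟩
  rw [← top.isEmbedding.isInducing.specializes_iff, hz1, hz1']
  exact hx

/-- The affine space test implies S-subtrusiveness over finite type affine schemes over opens. -/
theorem isSSubtrusive_of_finiteType (f : X ⟶ Y)
    (hf : ∀ n : ℕ, 0 < n → IsSSubtrusive
      (pullback.snd f (AlgebraicGeometry.AffineSpace (ULift.{u} (Fin n)) Y ↘ Y)))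
    {R : CommRingCat.{u}} (i : Spec R ⟶ Y) [IsOpenImmersion i] (B : Type u) [CommRing B]
    [Algebra R B] [Algebra.FiniteType R B] :
    IsSSubtrusive (pullback.snd f (Spec.map (CommRingCat.ofHom (algebraMap R B)) ≫ i)) := by
  obtain ⟨n, φ₀, hφ₀⟩ := Algebra.FiniteType.iff_quotient_mvPolynomial''.mp
    ‹Algebra.FiniteType R B›
  let φ : MvPolynomial (ULift.{u} (Fin (n + 1))) R →ₐ[R] B :=
    φ₀.comp (MvPolynomial.aeval fun j => Fin.cases 0 MvPolynomial.X j.down)
  have hφ : Function.Surjective φ := by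
    refine hφ₀.comp fun p => ⟨MvPolynomial.rename (fun j => ⟨j.succ⟩) p, ?_⟩
    refine (MvPolynomial.aeval_rename _ _ _).trans ?_
    simp only [Function.comp_def, Fin.cases_succ, MvPolynomial.aeval_X_left, AlgHom.id_apply]
  let k : Spec (CommRingCat.of B) ⟶ AlgebraicGeometry.AffineSpace (ULift.{u} (Fin (n + 1))) Y :=
    Spec.map (CommRingCat.ofHom φ.toRingHom) ≫
      (AlgebraicGeometry.AffineSpace.SpecIso (ULift.{u} (Fin (n + 1))) R).inv ≫
      AlgebraicGeometry.AffineSpace.map (ULift.{u} (Fin (n + 1))) i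
  have : IsOpenImmersion (AlgebraicGeometry.AffineSpace.map (ULift.{u} (Fin (n + 1))) i) :=
    MorphismProperty.of_isPullback (AlgebraicGeometry.AffineSpace.isPullback_map i).flip ‹_›
  have : IsClosedImmersion (Spec.map (CommRingCat.ofHom φ.toRingHom)) :=
    IsClosedImmersion.spec_of_surjective _ hφ
  have : IsPreimmersion k := inferInstance
  have e : Spec.map (CommRingCat.ofHom (algebraMap R B)) ≫ i =
      k ≫ (AlgebraicGeometry.AffineSpace (ULift.{u} (Fin (n + 1))) Y ↘ Y) := by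
    simp only [k, Category.assoc, AlgebraicGeometry.AffineSpace.map_over,
      AlgebraicGeometry.AffineSpace.SpecIso_inv_over_assoc, ← Spec.map_comp_assoc,
      ← CommRingCat.ofHom_comp]
    congr 3
    exact (φ.comp_algebraMap).symm
  rw [e]
  have sq : IsPullback (pullback.lift (pullback.fst _ _) (pullback.snd _ _ ≫ k)
      (by exact pullback.condition.trans (Category.assoc _ _ _).symm))
      (pullback.snd f (k ≫ (AlgebraicGeometry.AffineSpace (ULift.{u} (Fin (n + 1))) Y ↘ Y)))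
      (pullback.snd f (AlgebraicGeometry.AffineSpace (ULift.{u} (Fin (n + 1))) Y ↘ Y)) k :=
    IsPullback.of_right (by rw [pullback.lift_fst]; exact IsPullback.of_hasPullback _ _)
      (pullback.lift_snd _ _ _) (IsPullback.of_hasPullback _ _)
  exact isSSubtrusive_of_preimmersion sq (hf (n + 1) n.succ_pos)

theorem hasLifts_of_affineSpace (f : X ⟶ Y) [QuasiCompact f]
    (hf : ∀ n : ℕ, 0 < n → IsSSubtrusive
      (pullback.snd f (AlgebraicGeometry.AffineSpace (ULift.{u} (Fin n)) Y ↘ Y))) :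
    HasLifts f := by
  intro V _ _ _ g
  by_contra hcon
  obtain ⟨O, hO, hmem, -⟩ := exists_isAffineOpen_mem_and_subset (x := g (clPt V)) (U := ⊤) trivial
  obtain ⟨g', hg'⟩ := VCover.exists_factor g hO.fromSpec (by rwa [hO.range_fromSpec])
  obtain ⟨ψ, rfl⟩ := Spec.map_surjective g'
  let : Algebra Γ(Y, O) V := ψ.hom.toAlgebra
  obtain ⟨s, hs, hcov⟩ := isCompact_iff_finite_and_eq_biUnion_affineOpens.mp
    (f.isCompact_preimage (U := O) hO.isCompact)
  have hle : ∀ U : s, U.1.1 ≤ f ⁻¹ᵁ O := fun U x hx => by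
    show x ∈ ((f ⁻¹ᵁ O : X.Opens) : Set X)
    rw [hcov]
    simp only [TopologicalSpace.Opens.coe_iSup, Set.mem_iUnion]
    exact ⟨U.1, U.2, hx⟩
  let : ∀ U : s, Algebra Γ(Y, O) Γ(X, U.1.1) := fun U => (f.appLE O U.1.1 (hle U)).hom.toAlgebra
  have hfac : ∀ U : s, U.1.2.fromSpec ≫ f =
      Spec.map (CommRingCat.ofHom (algebraMap Γ(Y, O) Γ(X, U.1.1))) ≫ hO.fromSpec := fun U =>
    (IsAffineOpen.SpecMap_appLE_fromSpec f hO U.1.2 (hle U)).symm
  have hno : ∀ U : s, ∃ V₀ : Subalgebra Γ(Y, O) V, V₀.FG ∧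
      ∀ V₁, V₀ ≤ V₁ → NoPair Γ(X, U.1.1) V₁ := by
    intro U
    refine exists_noPair fun q' q hq' hq hle' hbot hcl => hcon ?_
    let iso := pullbackSpecIso Γ(Y, O) V Γ(X, U.1.1)
    let m : Spec (CommRingCat.of (V ⊗[Γ(Y, O)] Γ(X, U.1.1))) ⟶ pullback f g :=
      iso.inv ≫ pullback.lift (pullback.snd _ _ ≫ U.1.2.fromSpec) (pullback.fst _ _)
        (by rw [Category.assoc, hfac, ← pullback.condition_assoc, ← hg']; rfl)
    have hm : m ≫ pullback.snd f g =
        Spec.map (CommRingCat.ofHom Algebra.TensorProduct.includeLeftRingHom) := by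
      simp only [m, iso, Category.assoc, pullback.lift_snd]
      exact pullbackSpecIso_inv_fst _ _ _
    refine exists_lift_of_pair f g ⟨m ⟨q, hq⟩, m ⟨q', hq'⟩, Specializes.map
      ((PrimeSpectrum.le_iff_specializes _ _).mp hle') m.continuous, ?_, ?_⟩
    · show (m ≫ pullback.snd f g) _ = _
      rw [hm]
      exact PrimeSpectrum.ext hcl
    · show (m ≫ pullback.snd f g) _ = _
      rw [hm]
      exact PrimeSpectrum.ext hbot
  choose V₀ hV₀ hV₀' using hno
  have := hs.to_subtype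
  have := Fintype.ofFinite s
  let B := Finset.univ.sup V₀
  have hB : B.FG := Finset.sup_induction Subalgebra.fg_bot (fun _ ha _ hb => ha.sup hb)
    fun U _ => hV₀ U
  have : Algebra.FiniteType Γ(Y, O) B := ⟨(Subalgebra.fg_top B).mpr hB⟩
  obtain ⟨x, x', hx, hxy, hxy'⟩ := isSSubtrusive_of_finiteType f hf hO.fromSpec B
    (show (⟨⊥, Ideal.isPrime_bot⟩ : PrimeSpectrum B) ⤳
        (⟨contr B, Ideal.IsPrime.comap B.val⟩ : PrimeSpectrum B) from
      (PrimeSpectrum.le_iff_specializes _ _).mp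
        (show (⊥ : Ideal B) ≤ contr B from bot_le))
  obtain ⟨W, iC, iD, iV, k, hk1, hk2⟩ := exists_valuationRing_of_specializes hx
  have hin : (k ≫ pullback.fst _ _) (clPt W) ∈ f ⁻¹' (O : Set Y) := by
    show f _ ∈ (O : Set Y)
    rw [← Scheme.Hom.comp_apply, Category.assoc, pullback.condition, ← Category.assoc,
      ← Category.assoc, Scheme.Hom.comp_apply, ← hO.range_fromSpec]
    exact ⟨_, rfl⟩
  obtain ⟨U, hU, hxU⟩ : ∃ U ∈ s, (k ≫ pullback.fst _ _) (clPt W) ∈ U.1 := by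
    have : (k ≫ pullback.fst _ _) (clPt W) ∈ ((f ⁻¹ᵁ O : X.Opens) : Set X) := hin
    rw [hcov] at this
    simp only [TopologicalSpace.Opens.coe_iSup, Set.mem_iUnion] at this
    obtain ⟨U, hU, h⟩ := this
    exact ⟨U, hU, h⟩
  have hUa : IsAffineOpen U.1 := U.2
  let : Algebra Γ(Y, O) Γ(X, U.1) := (f.appLE O U.1 (hle ⟨U, hU⟩)).hom.toAlgebra
  obtain ⟨a, ha⟩ := VCover.exists_factor (k ≫ pullback.fst _ _) hUa.fromSpec
    (by rw [hUa.range_fromSpec]; exact hxU)
  let b := k ≫ pullback.snd f (Spec.map (CommRingCat.ofHom (algebraMap Γ(Y, O) B)) ≫ hO.fromSpec)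
  have hab : b ≫ Spec.map (CommRingCat.ofHom (algebraMap Γ(Y, O) B)) =
      a ≫ Spec.map (CommRingCat.ofHom (algebraMap Γ(Y, O) Γ(X, U.1))) := by
    have hfU : hUa.fromSpec ≫ f =
        Spec.map (CommRingCat.ofHom (algebraMap Γ(Y, O) Γ(X, U.1))) ≫ hO.fromSpec :=
      hfac ⟨U, hU⟩
    simp only [b]
    rw [← cancel_mono hO.fromSpec]
    simp only [Category.assoc]
    rw [← hfU,
      reassoc_of% ha, pullback.condition]
  let c : Spec (CommRingCat.of W) ⟶ Spec (CommRingCat.of (B ⊗[Γ(Y, O)] Γ(X, U.1))) :=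
    pullback.lift b a hab ≫ (pullbackSpecIso Γ(Y, O) B Γ(X, U.1)).hom
  have hc : c ≫ Spec.map (CommRingCat.ofHom Algebra.TensorProduct.includeLeftRingHom) = b := by
    simp [c]
    exact pullback.lift_fst _ _ _
  refine hV₀' ⟨U, hU⟩ B (Finset.le_sup (f := V₀) (Finset.mem_univ _)) _ _
    (c (genPt W)).2 (c (clPt W)).2
    ((PrimeSpectrum.le_iff_specializes _ _).mpr ((genPt_specializes _).map c.continuous)) ?_ ?_
  · have := congrArg PrimeSpectrum.asIdeal
      (show (c ≫ Spec.map (CommRingCat.ofHom Algebra.TensorProduct.includeLeftRingHom)) (genPt W) =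
          (⟨⊥, Ideal.isPrime_bot⟩ : PrimeSpectrum B) by
        rw [hc, Scheme.Hom.comp_apply, hk1, hxy'])
    exact this
  · have := congrArg PrimeSpectrum.asIdeal
      (show (c ≫ Spec.map (CommRingCat.ofHom Algebra.TensorProduct.includeLeftRingHom)) (clPt W) =
          (⟨contr B, Ideal.IsPrime.comap B.val⟩ : PrimeSpectrum B) by
        rw [hc, Scheme.Hom.comp_apply, hk2, hxy])
    exact this

theorem univSSubtrusive_iff_affineSpace (f : X ⟶ Y) [QuasiCompact f] :
    UnivSSubtrusive f ↔ ∀ n : ℕ, 0 < n → IsSSubtrusive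
      (pullback.snd f (AlgebraicGeometry.AffineSpace (ULift.{u} (Fin n)) Y ↘ Y)) :=
  ⟨fun h _ _ => isSSubtrusive_pullback_snd h _,
    fun h => univSSubtrusive_of_hasLifts (hasLifts_of_affineSpace f h)⟩

end Groth.Agent.Lib.Subtrusive.AffineSpace
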