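import Groth.Agent.Lib.Subtrusive.Criterion
import Mathlib.RingTheory.Localization.AtPrime.Basic

/-!
Lifting finite chains of specializations along universally S-subtrusive morphisms.
-/

universe u

open CategoryTheory CategoryTheory.Limits AlgebraicGeometry Subtr
open Groth.Agent.Lib.Subtrusive.Valuation Groth.Agent.Lib.Subtrusive.Criterion

namespace Groth.Agent.Lib.Subtrusive.Chain

/-- The valuation subring composed from one of a field and one of its residue field. -/
def composite {K : Type u} [Field K] (A : ValuationSubring K)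
    (B : ValuationSubring (IsLocalRing.ResidueField A)) : ValuationSubring K where
  toSubring := (B.toSubring.comap (IsLocalRing.residue A)).map A.subtype
  mem_or_inv_mem' x := by
    rcases A.mem_or_inv_mem x with hx | hx
    · by_cases hu : IsUnit (⟨x, hx⟩ : A)
      · rcases B.mem_or_inv_mem (IsLocalRing.residue A ⟨x, hx⟩) with h | h
        · exact Or.inl ⟨⟨x, hx⟩, h, rfl⟩
        · obtain ⟨u, hu'⟩ := hu
          refine Or.inr ⟨(u⁻¹ : Aˣ), ?_, ?_⟩
          · show IsLocalRing.residue A _ ∈ B
            rw [map_units_inv]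
            rwa [hu']
          · have : (x : K) * ((u⁻¹ : Aˣ) : A) = 1 := by
              have := congrArg Subtype.val (u.mul_inv)
              rwa [MulMemClass.coe_mul, hu'] at this
            exact (eq_inv_of_mul_eq_one_right this)
      · exact Or.inl ⟨⟨x, hx⟩, by
          show IsLocalRing.residue A _ ∈ B
          rw [(IsLocalRing.residue_eq_zero_iff _).mpr hu]; exact B.zero_mem, rfl⟩
    · by_cases hu : IsUnit (⟨x⁻¹, hx⟩ : A)
      · rcases B.mem_or_inv_mem (IsLocalRing.residue A ⟨x⁻¹, hx⟩) with h | h
        · exact Or.inr ⟨⟨x⁻¹, hx⟩, h, rfl⟩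
        · obtain ⟨u, hu'⟩ := hu
          refine Or.inl ⟨(u⁻¹ : Aˣ), ?_, ?_⟩
          · show IsLocalRing.residue A _ ∈ B
            rw [map_units_inv]
            rwa [hu']
          · have : (x⁻¹ : K) * ((u⁻¹ : Aˣ) : A) = 1 := by
              have := congrArg Subtype.val (u.mul_inv)
              rwa [MulMemClass.coe_mul, hu'] at this
            rw [← inv_inv x]
            exact (eq_inv_of_mul_eq_one_right this)
      · exact Or.inr ⟨⟨x⁻¹, hx⟩, by
          show IsLocalRing.residue A _ ∈ B
          rw [(IsLocalRing.residue_eq_zero_iff _).mpr hu]; exact B.zero_mem, rfl⟩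

theorem exists_valuation_chain (R : Type u) [CommRing R] :
    ∀ (n : ℕ) (K : Type u) [Field K] (ψ : R →+* K) (p : Fin (n + 1) → PrimeSpectrum R),
      RingHom.ker ψ = (p 0).asIdeal → (∀ i j, i ≤ j → p i ≤ p j) →
      ∃ (V : ValuationSubring K) (φ : R →+* V) (q : Fin (n + 1) → PrimeSpectrum V),
        V.subtype.comp φ = ψ ∧ (∀ i j, i ≤ j → q i ≤ q j) ∧
          ∀ i, PrimeSpectrum.comap φ (q i) = p i := by
  intro n
  induction n with
  | zero =>
    intro K _ ψ p hker _
    refine ⟨⊤, ψ.codRestrict (⊤ : ValuationSubring K).toSubring fun r => trivial,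
      fun _ => ⟨⊥, Ideal.isPrime_bot⟩, RingHom.ext fun r => rfl, fun _ _ _ => le_rfl, fun i => ?_⟩
    obtain rfl : i = 0 := Fin.ext (by omega)
    refine PrimeSpectrum.ext ?_
    rw [← hker]
    ext r
    simp only [PrimeSpectrum.comap_asIdeal, Ideal.mem_comap, Ideal.mem_bot, RingHom.mem_ker]
    exact ⟨fun h => congrArg Subtype.val h, fun h => Subtype.ext h⟩
  | succ n ih =>
    intro K _ ψ p hker hp
    have hunit : ∀ y : (p 1).asIdeal.primeCompl, IsUnit (ψ y) := fun y => by
      refine isUnit_iff_ne_zero.mpr fun h => y.2 (hp 0 1 (Fin.zero_le _) ?_)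
      rw [← hker]
      exact h
    let loc : Localization.AtPrime (p 1).asIdeal →+* K := IsLocalization.lift hunit
    obtain ⟨A, hA, hA'⟩ := IsLocalRing.exists_factor_valuationRing loc
    let toA : R →+* A :=
      (loc.codRestrict A.toSubring hA).comp (algebraMap R (Localization.AtPrime (p 1).asIdeal))
    have htoA : A.subtype.comp toA = ψ := RingHom.ext fun r => IsLocalization.lift_eq hunit r
    let ψ1 : R →+* IsLocalRing.ResidueField A := (IsLocalRing.residue A).comp toA
    have hker1 : RingHom.ker ψ1 = (p 1).asIdeal := by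
      rw [RingHom.ker_eq_comap_bot, ← Ideal.comap_comap, ← RingHom.ker_eq_comap_bot,
        IsLocalRing.ker_residue]
      show (IsLocalRing.maximalIdeal A).comap toA = _
      let locA : Localization.AtPrime (p 1).asIdeal →+* A := loc.codRestrict A.toSubring hA
      have : IsLocalHom locA := hA'
      have h1 := IsLocalRing.maximalIdeal_comap locA
      rw [← Ideal.comap_comap]
      exact (congrArg (Ideal.comap (algebraMap R _)) h1).trans
        (IsLocalization.AtPrime.comap_maximalIdeal (Localization.AtPrime (p 1).asIdeal) (p 1).asIdeal)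
    obtain ⟨B, φ1, q1, hφ1, hmono, hq1⟩ := ih (IsLocalRing.ResidueField A) ψ1 (fun i => p i.succ)
      hker1 fun i j h => hp _ _ (Fin.succ_le_succ_iff.mpr h)
    let V := composite A B
    have hmem : ∀ r, ψ r ∈ V := fun r => ⟨toA r, by
      show IsLocalRing.residue A (toA r) ∈ B
      have e : (φ1 r : IsLocalRing.ResidueField A) = ψ1 r := RingHom.congr_fun hφ1 r
      exact e ▸ (φ1 r).2, RingHom.congr_fun htoA r⟩
    let φ : R →+* V := ψ.codRestrict V.toSubring hmem
    have hVA : ∀ v : V, (v : K) ∈ A := fun v => by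
      obtain ⟨a, -, ha⟩ := v.2
      exact ha ▸ a.2
    let ι : V →+* A := V.subtype.codRestrict A.toSubring hVA
    have hπ : ∀ v : V, IsLocalRing.residue A (ι v) ∈ B := fun v => by
      obtain ⟨a, ha, hav⟩ := v.2
      have : ι v = a := Subtype.ext hav.symm
      rw [this]
      exact ha
    let π : V →+* B := ((IsLocalRing.residue A).comp ι).codRestrict B.toSubring hπ
    have hπφ : π.comp φ = φ1 := by
      refine RingHom.ext fun r => Subtype.ext ?_
      show IsLocalRing.residue A (ι (φ r)) = _
      have e : (φ1 r : IsLocalRing.ResidueField A) = ψ1 r := RingHom.congr_fun hφ1 r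
      rw [e]
      exact congrArg (IsLocalRing.residue A) (Subtype.ext (RingHom.congr_fun htoA r).symm)
    refine ⟨V, φ, Fin.cases ⟨⊥, Ideal.isPrime_bot⟩ fun i => PrimeSpectrum.comap π (q1 i),
      RingHom.ext fun r => rfl, ?_, ?_⟩
    · intro i j hij
      induction i using Fin.cases with
      | zero =>
        intro x hx
        rw [Ideal.mem_bot.mp hx]
        exact Ideal.zero_mem _
      | succ i =>
        induction j using Fin.cases with
        | zero => exact absurd hij (not_le.mpr i.succ_pos)
        | succ j => exact fun x hx => hmono i j (Fin.succ_le_succ_iff.mp hij) hx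
    · intro i
      induction i using Fin.cases with
      | zero =>
        refine PrimeSpectrum.ext ?_
        rw [← hker]
        ext r
        simp only [Fin.cases_zero, PrimeSpectrum.comap_asIdeal, Ideal.mem_comap, Ideal.mem_bot,
          RingHom.mem_ker]
        exact ⟨fun h => congrArg Subtype.val h, fun h => Subtype.ext h⟩
      | succ i =>
        rw [← hq1 i]
        refine PrimeSpectrum.ext ?_
        simp only [Fin.cases_succ, PrimeSpectrum.comap_asIdeal, Ideal.comap_comap, hπφ]

variable {X Y : Scheme.{u}}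

theorem exists_chain_lift (f : X ⟶ Y) (hf : UnivSSubtrusive f) (n : ℕ) (y : Fin (n + 1) → Y)
    (hy : ∀ i j : Fin (n + 1), i ≤ j → y i ⤳ y j) :
    ∃ x : Fin (n + 1) → X, (∀ i j : Fin (n + 1), i ≤ j → x i ⤳ x j) ∧ ∀ i, f (x i) = y i := by
  let y₀ := y (Fin.last n)
  have hmem : ∀ i, ∃ q : PrimeSpectrum (Y.presheaf.stalk y₀), Y.fromSpecStalk y₀ q = y i :=
    fun i => by
    have : y i ∈ Set.range (Y.fromSpecStalk y₀) := by
      rw [Scheme.range_fromSpecStalk]
      exact hy i _ (Fin.le_last i)
    exact this
  choose p hp using hmem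
  have hpmono : ∀ i j, i ≤ j → (p i : PrimeSpectrum _) ≤ p j := fun i j h => by
    rw [PrimeSpectrum.le_iff_specializes]
    refine (Y.fromSpecStalk y₀).isEmbedding.isInducing.specializes_iff.mp ?_
    rw [hp i, hp j]
    exact hy i j h
  obtain ⟨V, φ, q, -, hq, hqp⟩ := exists_valuation_chain (Y.presheaf.stalk y₀) n
    (p 0 : PrimeSpectrum (Y.presheaf.stalk y₀)).asIdeal.ResidueField (algebraMap _ _)
    (fun i => (p i : PrimeSpectrum _)) (Ideal.ker_algebraMap_residueField _) hpmono
  let g : Spec (CommRingCat.of V) ⟶ Y := Spec.map (CommRingCat.ofHom φ) ≫ Y.fromSpecStalk y₀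
  obtain ⟨W, iC, iD, iV, a, b, hb, hab⟩ := univSSubtrusive_iff_hasLifts.mp hf V g
  have hσ' : ∀ v : PrimeSpectrum V, ∃ r : PrimeSpectrum W, b r = v := fun v => b.surjective v
  choose σ hσ using hσ'
  refine ⟨fun i => a (σ (q i)), fun i j h => ?_, fun i => ?_⟩
  · refine Specializes.map ?_ a.continuous
    rcases (ValuationRing.iff_ideal_total.mp iV).total (σ (q i)).asIdeal (σ (q j)).asIdeal
      with hle | hle
    · exact (PrimeSpectrum.le_iff_specializes _ _).mp hle
    · have h1 := ((PrimeSpectrum.le_iff_specializes _ _).mp hle).map b.continuous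
      rw [hσ, hσ] at h1
      have e : q i = q j :=
        le_antisymm (hq i j h) ((PrimeSpectrum.le_iff_specializes _ _).mpr h1)
      rw [e]
      exact specializes_refl _
  · show (a ≫ f) (σ (q i)) = y i
    rw [hab]
    show g (b (σ (q i))) = y i
    rw [hσ]
    exact (congrArg (Y.fromSpecStalk y₀) (hqp i)).trans (hp i)

end Groth.Agent.Lib.Subtrusive.Chain
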