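import Groth.Agent.Lib.Subtrusive.Noetherian
import Mathlib.AlgebraicGeometry.Morphisms.FiniteType
import Mathlib.RingTheory.PowerSeries.Inverse

/-!
Discrete valuative criterion for universally S-subtrusive morphisms over locally Noetherian bases.
-/

universe u

open CategoryTheory CategoryTheory.Limits AlgebraicGeometry Subtr
open Groth.Agent.Lib.Subtrusive.Valuation Groth.Agent.Lib.Subtrusive.Criterion

namespace Groth.Agent.Lib.Subtrusive.DVR

variable {X Y : Scheme.{u}}

/-- Discrete valuation rings lift after an extension of discrete valuation rings. -/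
def HasDVRLifts (f : X ⟶ Y) : Prop :=
  ∀ (D : Type u) [CommRing D] [IsDomain D] [IsDiscreteValuationRing D]
    (g : Spec (CommRingCat.of D) ⟶ Y),
    ∃ (D' : Type u) (_ : CommRing D') (_ : IsDomain D') (_ : IsDiscreteValuationRing D')
      (a : Spec (CommRingCat.of D') ⟶ X) (b : Spec (CommRingCat.of D') ⟶ Spec (CommRingCat.of D)),
      Surjective b ∧ a ≫ f = b ≫ g

theorem hasDVRLifts_of_univSSubtrusive (f : X ⟶ Y) [LocallyOfFiniteType f]
    (hf : UnivSSubtrusive f) : HasDVRLifts f := by
  intro D _ _ _ g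
  have : IsLocallyNoetherian (Spec (CommRingCat.of D)) := inferInstance
  have : IsLocallyNoetherian (pullback f g) :=
    LocallyOfFiniteType.isLocallyNoetherian (pullback.snd f g)
  obtain ⟨w, w', hw, hwc, hwg⟩ :=
    isSSubtrusive_pullback_snd hf g (genPt_specializes (clPt D))
  have hne : w' ≠ w := by
    intro he
    rw [he] at hwg
    exact IsDiscreteValuationRing.not_a_field D
      (congrArg PrimeSpectrum.asIdeal (hwg.symm.trans hwc)).symm
  obtain ⟨D', iC, iD, iV, k, hk1, hk2⟩ := Noetherian.exists_dvr_of_specializes hw hne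
  refine ⟨D', iC, iD, iV, k ≫ pullback.fst f g, k ≫ pullback.snd f g, ?_,
    by simp only [Category.assoc, pullback.condition]⟩
  exact surjective_of_endpoints _ (by rw [Scheme.Hom.comp_apply, hk1, hwg])
    (by rw [Scheme.Hom.comp_apply, hk2, hwc])

theorem surjective_of_hasDVRLifts_aux (f : X ⟶ Y) (hf : HasDVRLifts f) {D : Type u}
    [CommRing D] [IsDomain D] [IsDiscreteValuationRing D] {Z : Scheme.{u}} (p : Z ⟶ Y) {z' z : Z}
    (g : Spec (CommRingCat.of D) ⟶ Z) (hg1 : g (genPt D) = z') (hg2 : g (clPt D) = z) :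
    ∃ x x' : ↑(pullback f p), x' ⤳ x ∧ pullback.snd f p x = z ∧ pullback.snd f p x' = z' := by
  obtain ⟨D', iC, iD, iV, a, b, hb, hab⟩ := hf D (g ≫ p)
  let l := pullback.lift a (b ≫ g) (hab.trans (Category.assoc b g p).symm)
  refine ⟨l (clPt D'), l (genPt D'), (genPt_specializes _).map l.continuous, ?_, ?_⟩
  · rw [← Scheme.Hom.comp_apply, pullback.lift_snd, Scheme.Hom.comp_apply,
      surjective_apply_clPt b, hg2]
  · rw [← Scheme.Hom.comp_apply, pullback.lift_snd, Scheme.Hom.comp_apply,
      surjective_apply_genPt b, hg1]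

theorem surjective_of_hasDVRLifts (f : X ⟶ Y) (hf : HasDVRLifts f) : Function.Surjective f := by
  intro y
  let D := PowerSeries (Y.residueField y)
  have : IsDiscreteValuationRing D :=
    inferInstanceAs (IsDiscreteValuationRing (PowerSeries (Y.residueField y)))
  let g : Spec (CommRingCat.of D) ⟶ Y :=
    Spec.map (CommRingCat.ofHom (PowerSeries.C : Y.residueField y →+* D)) ≫
      Y.fromSpecResidueField y
  obtain ⟨D', iC, iD, iV, a, b, hb, hab⟩ := hf D g
  refine ⟨a (clPt D'), ?_⟩
  rw [← Scheme.Hom.comp_apply, hab, Scheme.Hom.comp_apply, Scheme.Hom.comp_apply,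
    Scheme.fromSpecResidueField_apply]

theorem univSSubtrusive_of_hasDVRLifts [IsLocallyNoetherian Y] (f : X ⟶ Y) [QuasiCompact f]
    (hf : HasDVRLifts f) : UnivSSubtrusive f := by
  have hs := surjective_of_hasDVRLifts f hf
  refine univSSubtrusive_of_hasLifts (AffineSpace.hasLifts_of_affineSpace f fun n _ => ?_)
  let p := AlgebraicGeometry.AffineSpace (ULift.{u} (Fin n)) Y ↘ Y
  have : IsLocallyNoetherian (AlgebraicGeometry.AffineSpace (ULift.{u} (Fin n)) Y) :=
    LocallyOfFiniteType.isLocallyNoetherian p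
  intro z z' h
  by_cases hne : z' = z
  · have : Surjective f := ⟨hs⟩
    obtain ⟨x, hx⟩ := (pullback.snd f p).surjective z
    exact ⟨x, x, specializes_refl _, hx, by rw [hne]; exact hx⟩
  obtain ⟨D, iC, iD, iV, g, hg1, hg2⟩ := Noetherian.exists_dvr_of_specializes h hne
  exact surjective_of_hasDVRLifts_aux f hf p g hg1 hg2

end Groth.Agent.Lib.Subtrusive.DVR
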