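import Groth.Agent.Lib.Subtrusive.Submersive
import Mathlib.AlgebraicGeometry.Morphisms.Proper
import Mathlib.AlgebraicGeometry.Morphisms.UniversallyOpen

/-!
Topological properties descend along universally submersive morphisms.
-/

universe u

open CategoryTheory CategoryTheory.Limits AlgebraicGeometry TopologicalSpace
open Groth.Agent.Lib.Subtrusive.Submersive

namespace Groth.Agent.Lib.Subtrusive.Descent

variable {X Y X' Y' : Scheme.{u}} {gX : X' ⟶ X} {f' : X' ⟶ Y'} {f : X ⟶ Y} {gY : Y' ⟶ Y}
  (h : IsPullback gX f' f gY) (hg : SGA1.UnivSubmersive gY)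
include h hg

theorem isOpenMap (hf' : IsOpenMap f') : IsOpenMap f := fun s hs =>
  (isQuotientMap_of_univSubmersive hg).isOpen_preimage.mp
    (Scheme.image_preimage_eq_of_isPullback h s ▸ hf' _ (hs.preimage gX.continuous))

theorem isClosedMap (hf' : IsClosedMap f') : IsClosedMap f := fun s hs =>
  (isQuotientMap_of_univSubmersive hg).isClosed_preimage.mp
    (Scheme.image_preimage_eq_of_isPullback h s ▸ hf' _ (hs.preimage gX.continuous))

omit hg in
/-- Base change of a square along a morphism to the base. -/
theorem exists_baseChange {Z XZ : Scheme.{u}} {i₁ : XZ ⟶ X} {fZ : XZ ⟶ Z} {i₂ : Z ⟶ Y}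
    (hZ : IsPullback i₁ fZ f i₂) :
    ∃ (b : pullback fZ (pullback.fst i₂ gY) ⟶ X'),
      IsPullback b (pullback.snd fZ (pullback.fst i₂ gY)) f' (pullback.snd i₂ gY) := by
  have big := (IsPullback.of_hasPullback fZ (pullback.fst i₂ gY)).paste_horiz hZ
  rw [pullback.condition] at big
  refine ⟨h.lift (pullback.fst _ _ ≫ i₁) (pullback.snd _ _ ≫ pullback.snd i₂ gY)
    (by simpa using big.w), IsPullback.of_right ?_ (h.lift_snd _ _ _) h⟩
  rw [IsPullback.lift_fst]
  exact big

theorem universallyOpen (hf' : UniversallyOpen f') : UniversallyOpen f := by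
  refine ⟨fun XZ Z i₁ i₂ fZ hZ => ?_⟩
  obtain ⟨b, hb⟩ := exists_baseChange h hZ.flip
  exact isOpenMap (IsPullback.of_hasPullback fZ (pullback.fst i₂ gY))
    (univSubmersive_of_isPullback (IsPullback.of_hasPullback i₂ gY).flip hg)
    (hf'.universally_isOpenMap _ _ _ hb.flip)

theorem universallyClosed (hf' : UniversallyClosed f') : UniversallyClosed f := by
  refine ⟨fun XZ Z i₁ i₂ fZ hZ => ?_⟩
  obtain ⟨b, hb⟩ := exists_baseChange h hZ.flip
  exact isClosedMap (IsPullback.of_hasPullback fZ (pullback.fst i₂ gY))
    (univSubmersive_of_isPullback (IsPullback.of_hasPullback i₂ gY).flip hg)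
    (hf'.universally_isClosedMap _ _ _ hb.flip)

theorem isSeparated (hf' : IsSeparated f') : IsSeparated f := by
  let m : pullback f' f' ⟶ pullback f f := pullback.map f' f' f f gX gX gY h.w.symm h.w.symm
  have hbig : IsPullback (pullback.snd f' f' ≫ gX) (pullback.fst f' f') f (gX ≫ f) := by
    rw [h.w]
    exact (IsPullback.of_hasPullback f' f').flip.paste_horiz h
  have hbot : IsPullback m (pullback.fst f' f') (pullback.fst f f) gX :=
    IsPullback.of_right (by rwa [pullback.lift_snd]) (pullback.lift_fst _ _ _)
      (IsPullback.of_hasPullback f f).flip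
  have hm : SGA1.UnivSubmersive m := by
    have h1 : SGA1.UnivSubmersive gX := univSubmersive_of_isPullback h.flip hg
    exact univSubmersive_of_isPullback hbot.flip h1
  have hd : IsPullback gX (pullback.diagonal f') (pullback.diagonal f) m := by
    refine IsPullback.of_bot ?_ ?_ hbot
    · rw [pullback.diagonal_fst, pullback.diagonal_fst]
      exact IsPullback.of_vert_isIso ⟨by simp⟩
    · ext <;> simp only [m, Category.assoc, pullback.lift_fst, pullback.lift_snd,
        pullback.diagonal_fst, pullback.diagonal_snd, pullback.diagonal_fst_assoc,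
        pullback.diagonal_snd_assoc, Category.comp_id]
  have := hf'.isClosedImmersion_diagonal
  refine ⟨IsClosedImmersion.of_isPreimmersion _ ?_⟩
  rw [← (isQuotientMap_of_univSubmersive hm).isClosed_preimage, ← Set.image_univ,
    ← Scheme.image_preimage_eq_of_isPullback hd Set.univ, Set.preimage_univ, Set.image_univ]
  exact (pullback.diagonal f').isClosedEmbedding.isClosed_range

theorem quasiCompact (hgc : QuasiCompact gY) (hf' : QuasiCompact f') : QuasiCompact f := by
  have : Surjective gX :=
    ⟨(isQuotientMap_of_univSubmersive (univSubmersive_of_isPullback h.flip hg)).surjective⟩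
  refine ⟨fun U hUo hU => ?_⟩
  have := (hf'.isCompact_preimage _ (hUo.preimage gY.continuous)
    (hgc.isCompact_preimage U hUo hU)).image gX.continuous
  rwa [← Set.preimage_comp, ← TopCat.coe_comp, ← Scheme.Hom.comp_base, ← h.w, Scheme.Hom.comp_base,
    TopCat.coe_comp, Set.preimage_comp, Set.image_preimage_eq _ gX.surjective] at this

theorem isProper (hft : LocallyOfFiniteType f) (hf' : IsProper f') : IsProper f := by
  have := isSeparated h hg hf'.toIsSeparated
  have := universallyClosed h hg hf'.toUniversallyClosed
  exact { }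

omit h hg in
/-- The comparison square for `pullback.map`. -/
theorem isPullback_map {S S' : Scheme.{u}} (g : S' ⟶ S) (f : X ⟶ Y) (q : Y ⟶ S) :
    IsPullback (pullback.fst (f ≫ q) g)
      (pullback.map (f ≫ q) g q g f (𝟙 S') (𝟙 S) (Category.comp_id _)
        ((Category.comp_id _).trans (Category.id_comp _).symm)) f (pullback.fst q g) := by
  refine IsPullback.of_bot ?_ (pullback.lift_fst _ _ _).symm (IsPullback.of_hasPullback q g)
  rw [pullback.lift_snd, Category.comp_id]
  exact IsPullback.of_hasPullback (f ≫ q) g

end Groth.Agent.Lib.Subtrusive.Descent
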