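import Groth.Agent.Lib.Subtrusive.Criterion
import Mathlib.AlgebraicGeometry.IdealSheaf.Subscheme

/-!
Scheme theoretic closure of a generic point over a valuation ring is flat.
-/

universe u

open CategoryTheory CategoryTheory.Limits AlgebraicGeometry
open Groth.Agent.Lib.Subtrusive.Valuation

namespace Groth.Agent.Lib.Subtrusive.FlatImage

variable {X : Scheme.{u}} {V : Type u} [CommRing V] [IsDomain V] [ValuationRing V]

theorem flat_ringHom_of_regular {M : Type u} [CommRing M] (φ : V →+* M)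
    (h : ∀ s : V, s ≠ 0 → ∀ a : M, φ s * a = 0 → a = 0) : RingHom.Flat φ := by
  let := φ.toAlgebra
  show Module.Flat V M
  rw [Module.Flat.flat_iff_torsion_eq_bot_of_isBezout, eq_bot_iff]
  rintro m ⟨⟨r, hr⟩, hm⟩
  exact (Submodule.mem_bot V).mpr (h r (nonZeroDivisors.ne_zero hr) m hm)

theorem exists_closedImmersion_flat (f : X ⟶ Spec (CommRingCat.of V)) {x x' : X} (hx : x' ⤳ x)
    (hc : f x = clPt V) (hg : f x' = genPt V) :
    ∃ (Z : Scheme.{u}) (i : Z ⟶ X), IsClosedImmersion i ∧ Flat (i ≫ f) ∧ Surjective (i ≫ f) := by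
  let j := X.fromSpecResidueField x'
  have hsub : Subsingleton (Spec (X.residueField x')) :=
    (inferInstance : Subsingleton (PrimeSpectrum (X.residueField x')))
  have hj : QuasiCompact j := ⟨fun U _ _ => Set.Subsingleton.finite Set.subsingleton_of_subsingleton |>.isCompact⟩
  have hflat : Flat (j.imageι ≫ f) := by
    refine HasRingHomProperty.of_iSup_eq_top (P := @Flat)
      (fun U : X.affineOpens => ⟨j.imageι ⁻¹ᵁ U.1, U.2.preimage j.imageι⟩) ?_ fun U => ?_
    · rw [← Scheme.Hom.preimage_iSup, iSup_affineOpens_eq_top X, Scheme.Hom.preimage_top]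
    rw [← RingHom.Flat.comp_iff_of_bijective_right
      (ConcreteCategory.bijective_of_isIso (Scheme.ΓSpecIso (CommRingCat.of V)).inv)]
    refine flat_ringHom_of_regular _ fun s hs a ha => ?_
    apply j.toImage_app_injective U
    rw [map_zero]
    obtain ⟨φ, hφ⟩ := Spec.map_surjective (j ≫ f)
    have hinj : Function.Injective φ.hom := by
      rw [RingHom.injective_iff_ker_eq_bot]
      have h1 : Spec.map φ (genPt (X.residueField x')) = genPt V := by
        rw [hφ, Scheme.Hom.comp_apply, Scheme.fromSpecResidueField_apply, hg]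
      exact congrArg PrimeSpectrum.asIdeal h1
    have hu : IsUnit ((Spec.map φ).appLE ⊤ ((j.toImage ⁻¹ᵁ (j.imageι ⁻¹ᵁ U.1))) le_top
        ((Scheme.ΓSpecIso (CommRingCat.of V)).inv s)) := by
      have hu0 : IsUnit (φ.hom s) := ((map_ne_zero_iff _ hinj).mpr hs).isUnit
      have := (hu0.map (Scheme.ΓSpecIso (X.residueField x')).inv.hom).map
        ((Spec (X.residueField x')).presheaf.map
          (homOfLE le_top : (j.toImage ⁻¹ᵁ (j.imageι ⁻¹ᵁ U.1)) ⟶ ⊤).op).hom
      convert! this using 1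
      rw [← CategoryTheory.comp_apply φ, Scheme.ΓSpecIso_inv_naturality]
      rfl
    refine (IsUnit.mul_right_eq_zero hu).mp ?_
    have e : (Spec.map φ).appLE ⊤ (j.toImage ⁻¹ᵁ (j.imageι ⁻¹ᵁ U.1)) le_top =
        (j.imageι ≫ f).appLE ⊤ (j.imageι ⁻¹ᵁ U.1) le_top ≫
          j.toImage.app (j.imageι ⁻¹ᵁ U.1) := by
      rw [Scheme.Hom.app_eq_appLE]
      refine Eq.trans ?_ (Scheme.Hom.appLE_comp_appLE j.toImage (j.imageι ≫ f) ⊤ _ _ _ _).symm
      have e' : Spec.map φ = j.toImage ≫ j.imageι ≫ f := by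
        rw [hφ, Scheme.Hom.toImage_imageι_assoc]
      simp only [e']
    rw [e, CategoryTheory.comp_apply, ← map_mul]
    have := congrArg (j.toImage.app (j.imageι ⁻¹ᵁ U.1)).hom ha
    simpa using this
  refine ⟨j.image, j.imageι, inferInstance, hflat, ⟨fun p => ?_⟩⟩
  have hgen := Flat.generalizingMap (j.imageι ≫ f)
  obtain ⟨z, hz⟩ : x ∈ Set.range j.imageι := by
    rw [Scheme.IdealSheafData.range_subschemeι, Scheme.Hom.support_ker]
    exact hx.mem_closed isClosed_closure (subset_closure ⟨IsLocalRing.closedPoint _,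
      Scheme.fromSpecResidueField_apply _ _⟩)
  obtain ⟨q, -, hq⟩ := hgen (show p ⤳ (j.imageι ≫ f) z by
    rw [Scheme.Hom.comp_apply, hz, hc]; exact specializes_clPt p)
  exact ⟨q, hq⟩

end Groth.Agent.Lib.Subtrusive.FlatImage
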