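import Groth.Agent.Lib.Subtrusive.Chain
import Groth.Agent.Lib.Subtrusive.ClosedImage
import Groth.Agent.Lib.Subtrusive.ProConstructible

/-!
Descent of locally closed retrocompact subsets along universally subtrusive morphisms.
-/

universe u

open CategoryTheory CategoryTheory.Limits AlgebraicGeometry Subtr
open Groth.Agent.Lib.Subtrusive.Valuation Groth.Agent.Lib.Subtrusive.Criterion

namespace Groth.Agent.Lib.Subtrusive.LocallyClosed

variable {X Y : Scheme.{u}}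

/-- Retrocompact locally closed sets are, on each affine open, closed in a compact open. -/
theorem exists_compact_open {E : Set Y} (hl : IsLocallyClosed E) (hr : IsRetrocompact E)
    {V : Y.Opens} (hV : IsAffineOpen V) :
    ∃ W : Y.Opens, W ≤ V ∧ IsCompact (W : Set Y) ∧ E ∩ V = closure E ∩ W := by
  have hc : IsCompact (E ∩ V : Set Y) := hr hV.isCompact V.2
  obtain ⟨U0, Z0, hU0, hZ0, hE⟩ := hl
  obtain ⟨t, ht⟩ := hc.elim_finite_subcover
    (fun W : {W : Y.affineOpens // (W.1 : Set Y) ⊆ U0 ∩ V} => (W.1.1 : Set Y))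
    (fun W => W.1.1.2) (fun x hx => by
      have hxU : x ∈ U0 ∩ V := ⟨(hE ▸ hx.1 : x ∈ U0 ∩ Z0).1, hx.2⟩
      obtain ⟨W, hW, hxW, hle⟩ :=
        exists_isAffineOpen_mem_and_subset (x := x) (U := ⟨U0 ∩ V, hU0.inter V.2⟩) hxU
      exact Set.mem_iUnion.mpr ⟨⟨⟨W, hW⟩, hle⟩, hxW⟩)
  refine ⟨⟨⋃ W ∈ t, (W.1.1 : Set Y), isOpen_biUnion fun W _ => W.1.1.2⟩, fun x hx => ?_,
    t.finite_toSet.isCompact_biUnion fun W _ => W.1.2.isCompact, ?_⟩
  · obtain ⟨W, hW, hxW⟩ := Set.mem_iUnion₂.mp hx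
    exact (W.2 hxW).2
  · refine Set.Subset.antisymm (fun x hx => ⟨subset_closure hx.1, ht hx⟩) fun x hx => ?_
    obtain ⟨W, hW, hxW⟩ := Set.mem_iUnion₂.mp hx.2
    refine ⟨?_, (W.2 hxW).2⟩
    rw [hE]
    exact ⟨(W.2 hxW).1, closure_minimal (hE ▸ Set.inter_subset_right) hZ0 hx.1⟩

theorem isRetrocompact_preimage (f : X ⟶ Y) {E : Set Y}
    (hl : IsLocallyClosed E) (hr : IsRetrocompact E) : IsRetrocompact (f ⁻¹' E) := by
  intro O hOc hO
  have hloc : ∀ x : X, ∃ (V : Y.affineOpens) (U : X.affineOpens), x ∈ (U : X.Opens) ∧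
      (U : X.Opens) ≤ f ⁻¹ᵁ (V : Y.Opens) ∧ (x ∈ O → (U.1 : Set X) ⊆ O) := by
    intro x
    obtain ⟨V, hV, hxV, -⟩ := exists_isAffineOpen_mem_and_subset (x := f x) (U := ⊤) trivial
    by_cases hxO : x ∈ O
    · obtain ⟨U, hU, hxU, hle⟩ := exists_isAffineOpen_mem_and_subset (x := x)
        (U := f ⁻¹ᵁ V ⊓ ⟨O, hO⟩) ⟨hxV, hxO⟩
      exact ⟨⟨V, hV⟩, ⟨U, hU⟩, hxU, fun a ha => (hle ha).1, fun _ a ha => (hle ha).2⟩
    · obtain ⟨U, hU, hxU, hle⟩ := exists_isAffineOpen_mem_and_subset (x := x)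
        (U := f ⁻¹ᵁ V) hxV
      exact ⟨⟨V, hV⟩, ⟨U, hU⟩, hxU, hle, fun h => absurd h hxO⟩
  choose V U hxU hUV hUO using hloc
  obtain ⟨t, ht⟩ := hOc.elim_finite_subcover (fun x : O => ((U x.1).1 : Set X))
    (fun x => (U x.1).1.2) (fun x hx => Set.mem_iUnion.mpr ⟨⟨x, hx⟩, hxU x⟩)
  have e : f ⁻¹' E ∩ O = ⋃ x ∈ t, f ⁻¹' E ∩ (U x.1).1 := by
    ext a
    constructor
    · rintro ⟨ha, haO⟩
      obtain ⟨x, hx, hax⟩ := Set.mem_iUnion₂.mp (ht haO)
      exact Set.mem_iUnion₂.mpr ⟨x, hx, ha, hax⟩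
    · intro ha
      obtain ⟨x, hx, hax⟩ := Set.mem_iUnion₂.mp ha
      exact ⟨hax.1, hUO x.1 x.2 hax.2⟩
  rw [e]
  refine t.finite_toSet.isCompact_biUnion fun x _ => ?_
  obtain ⟨W, hWV, hWc, hW⟩ := exists_compact_open hl hr (V x.1).2
  have hA : IsAffine ((U x.1).1 : Scheme.{u}) := (U x.1).2
  have hB : IsAffine ((V x.1).1 : Scheme.{u}) := (V x.1).2
  let r : ((U x.1).1 : Scheme.{u}) ⟶ ((V x.1).1 : Scheme.{u}) := f.resLE _ _ (hUV x.1)
  have hr' : ∀ a, (V x.1).1.ι (r a) = f ((U x.1).1.ι a) := fun a => by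
    rw [← Scheme.Hom.comp_apply, Scheme.Hom.resLE_comp_ι, Scheme.Hom.comp_apply]
  have e2 : f ⁻¹' E ∩ (U x.1).1 =
      (U x.1).1.ι '' ((U x.1).1.ι ⁻¹' (f ⁻¹' closure E) ∩ r ⁻¹' ((V x.1).1.ι ⁻¹' W)) := by
    ext a
    constructor
    · rintro ⟨ha, haU⟩
      have hmem : f a ∈ closure E ∩ (W : Set Y) := hW ▸ ⟨ha, hUV x.1 haU⟩
      refine ⟨⟨a, haU⟩, ⟨hmem.1, ?_⟩, rfl⟩
      exact Eq.subst (motive := fun z => z ∈ (W : Set Y)) (hr' ⟨a, haU⟩).symm hmem.2
    · rintro ⟨b, ⟨hb1, hb2⟩, rfl⟩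
      have hb2' : (V x.1).1.ι (r b) ∈ (W : Set Y) := hb2
      rw [hr'] at hb2'
      have : f ((U x.1).1.ι b) ∈ E ∩ ((V x.1).1 : Set Y) := hW ▸ ⟨hb1, hb2'⟩
      exact ⟨this.1, b.2⟩
  rw [e2]
  refine (IsCompact.inter_left (r.isCompact_preimage (U := (V x.1).1.ι ⁻¹ᵁ W) ?_) ?_).image
    (U x.1).1.ι.continuous
  · rw [(V x.1).1.ι.isOpenEmbedding.isEmbedding.isCompact_iff,
      show (V x.1).1.ι '' (((V x.1).1.ι ⁻¹ᵁ W : ((V x.1).1 : Scheme.{u}).Opens) : Set _) = W from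
        Set.image_preimage_eq_of_subset (by rw [Scheme.Opens.range_ι]; exact hWV)]
    exact hWc
  · exact (isClosed_closure.preimage f.continuous).preimage (U x.1).1.ι.continuous

/-- The closure of a retrocompact locally closed set consists of its specializations. -/
theorem exists_generization {E : Set Y} (hl : IsLocallyClosed E) (hr : IsRetrocompact E) {y : Y}
    (hy : y ∈ closure E) : ∃ z ∈ E, z ⤳ y := by
  obtain ⟨V, hV, hyV, -⟩ := exists_isAffineOpen_mem_and_subset (x := y) (U := ⊤) trivial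
  obtain ⟨W, hWV, hWc, hW⟩ := exists_compact_open hl hr hV
  have hA : IsAffine (V : Scheme.{u}) := hV
  have h1 : CompactSpace ↥V := (inferInstance : CompactSpace (V : Scheme.{u}))
  have h2 : QuasiSober ↥V := (inferInstance : QuasiSober (V : Scheme.{u}))
  have h3 : PrespectralSpace ↥V := (inferInstance : PrespectralSpace (V : Scheme.{u}))
  have h4 : QuasiSeparatedSpace ↥V := (inferInstance : QuasiSeparatedSpace (V : Scheme.{u}))
  let W' : Set ↥V := Subtype.val ⁻¹' (W : Set Y)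
  have hW'c : IsCompact W' := by
    rw [Subtype.isCompact_iff]
    rw [show (Subtype.val '' W' : Set Y) = W from
      Set.image_preimage_eq_of_subset fun a ha => ⟨⟨a, hWV ha⟩, rfl⟩]
    exact hWc
  let C : Set ↥V := Subtype.val ⁻¹' closure E
  let S : Set (Set ↥V) :=
    {T | ∃ O : Set ↥V, IsOpen O ∧ IsCompact O ∧ O ∩ C = ∅ ∧ T = Oᶜ} ∪ {W'}
  have hmem : ∀ a : ↥V, a ∈ ⋂₀ S ↔ a.1 ∈ E := by
    intro a
    constructor
    · intro ha
      have haW : a.1 ∈ (W : Set Y) := ha W' (Or.inr rfl)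
      have haC : a ∈ C := by
        by_contra hn
        obtain ⟨O, ⟨hOo, hOc⟩, haO, hsub⟩ := PrespectralSpace.isTopologicalBasis.exists_subset_of_mem_open
          hn (isClosed_closure.preimage continuous_subtype_val).isOpen_compl
        exact ha Oᶜ (Or.inl ⟨O, hOo, hOc, Set.eq_empty_of_forall_notMem
          (fun b hb => hsub hb.1 hb.2), rfl⟩) haO
      have : a.1 ∈ E ∩ (V : Set Y) := hW ▸ ⟨haC, haW⟩
      exact this.1
    · rintro ha T (⟨O, hOo, hOc, hO, rfl⟩ | rfl)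
      · intro haO
        exact Set.eq_empty_iff_forall_notMem.mp hO a ⟨haO, subset_closure ha⟩
      · exact (hW ▸ ⟨ha, a.2⟩ : a.1 ∈ closure E ∩ (W : Set Y)).2
  have hcl : (⟨y, hyV⟩ : ↥V) ∈ closure (⋂₀ S) := by
    rw [mem_closure_iff]
    intro o ho hyo
    obtain ⟨o', ho', rfl⟩ := isOpen_induced_iff.mp ho
    obtain ⟨z, ⟨hzo, hzV⟩, hzE⟩ := mem_closure_iff.mp hy (o' ∩ V) (ho'.inter V.2) ⟨hyo, hyV⟩
    exact ⟨⟨z, hzV⟩, hzo, (hmem _).mpr hzE⟩
  obtain ⟨z, hz, hzy⟩ := ProConstructible.exists_generization (S := S) (by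
    rintro T (⟨O, hOo, hOc, -, rfl⟩ | rfl)
    · exact (hOc.isConstructible hOo).compl
    · exact hW'c.isConstructible (W.2.preimage continuous_subtype_val)) hcl
  exact ⟨z.1, (hmem z).mp hz, hzy.map continuous_subtype_val⟩

/-- Locally closed sets are convex for specialization. -/
theorem mem_of_between {α : Type*} [TopologicalSpace α] {E : Set α} (hl : IsLocallyClosed E)
    {a b c : α} (ha : a ∈ E) (hc : c ∈ E) (hab : a ⤳ b) (hbc : b ⤳ c) : b ∈ E := by
  obtain ⟨U, Z, hU, hZ, rfl⟩ := hl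
  exact ⟨hbc.mem_open hU hc.1, hab.mem_closed hZ ha.2⟩

theorem descend (f : X ⟶ Y) [QuasiCompact f] (hf : UnivSSubtrusive f) {E : Set Y}
    (hl : IsLocallyClosed (f ⁻¹' E)) (hr : IsRetrocompact (f ⁻¹' E)) :
    IsLocallyClosed E ∧ IsRetrocompact E := by
  have hs : Function.Surjective f := surjective_of_isSSubtrusive (isSSubtrusive_of_univ hf)
  refine ⟨?_, fun O hOc hO => ?_⟩
  swap
  · have : E ∩ O = f '' (f ⁻¹' E ∩ f ⁻¹' O) := by
      rw [← Set.preimage_inter, Set.image_preimage_eq _ hs]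
    rw [this]
    exact (hr (f.isCompact_preimage (U := ⟨O, hO⟩) hOc) (hO.preimage f.continuous)).image
      f.continuous
  have chain : ∀ {c' : X} {y : Y}, c' ∈ closure (f ⁻¹' E) → f c' ⤳ y → ∃ d d'' d' : X,
      d'' ∈ f ⁻¹' E ∧ d'' ⤳ d' ∧ d' ⤳ d ∧ f d' = f c' ∧ f d = y := by
    intro c' y hc' hy
    obtain ⟨z, hz, hzc⟩ := exists_generization hl hr hc'
    obtain ⟨x, hx, hxe⟩ := Chain.exists_chain_lift f hf 2 ![f z, f c', y] (by
      intro i j hij
      fin_cases i <;> fin_cases j <;>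
        first
          | exact absurd hij (by decide)
          | exact specializes_refl _
          | exact hzc.map f.continuous
          | exact hy
          | exact (hzc.map f.continuous).trans hy)
    exact ⟨x 2, x 0, x 1, show f (x 0) ∈ E from (hxe 0).symm ▸ hz,
      hx 0 1 (by decide), hx 1 2 (by decide), hxe 1, hxe 2⟩
  have hC : IsClosed (f '' closure (f ⁻¹' E)) := by
    refine ClosedImage.isClosed_image f isClosed_closure ?_
    rintro _ y hy ⟨c', hc', rfl⟩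
    obtain ⟨d, d'', d', h1, h2, h3, -, hd⟩ := chain hc' hy
    exact ⟨d, (h2.trans h3).mem_closed isClosed_closure (subset_closure h1), hd⟩
  have hclE : closure E = f '' closure (f ⁻¹' E) := by
    refine Set.Subset.antisymm (closure_minimal (fun y hy => ?_) hC) ?_
    · obtain ⟨x, rfl⟩ := hs y
      exact ⟨x, subset_closure hy, rfl⟩
    · exact (image_closure_subset_closure_image f.continuous).trans
        (closure_mono (Set.image_preimage_subset _ _))
  have hcob : IsClosed (closure (f ⁻¹' E) \ f ⁻¹' E) := by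
    have := (isLocallyClosed_tfae (f ⁻¹' E)).out 0 1
    rw [← isOpen_compl_iff]
    exact this.mp hl
  have hD : IsClosed (f '' (closure (f ⁻¹' E) \ f ⁻¹' E)) := by
    refine ClosedImage.isClosed_image f hcob ?_
    rintro _ y hy ⟨c', hc', rfl⟩
    obtain ⟨d, d'', d', h1, h2, h3, hd', hd⟩ := chain hc'.1 hy
    refine ⟨d, ⟨(h2.trans h3).mem_closed isClosed_closure (subset_closure h1), fun hdE => ?_⟩, hd⟩
    have : d' ∈ f ⁻¹' E := mem_of_between hl h1 hdE h2 h3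
    rw [Set.mem_preimage, hd'] at this
    exact hc'.2 this
  have he : closure E \ E = f '' (closure (f ⁻¹' E) \ f ⁻¹' E) := by
    rw [hclE, Set.image_sdiff_preimage]
  refine ((isLocallyClosed_tfae E).out 0 1).mpr ?_
  rw [← he] at hD
  exact hD.isOpen_compl

end Groth.Agent.Lib.Subtrusive.LocallyClosed
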