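import Groth.Agent.Lib.Subtrusive.LocallyClosed
import Mathlib.AlgebraicGeometry.Morphisms.FinitePresentation

/-!
Descent of arbitrary locally closed subsets along universally subtrusive morphisms of finite
presentation, using that such morphisms are open in the constructible topology (Chevalley).
-/

universe u

open CategoryTheory AlgebraicGeometry Subtr
open Groth.Agent.Lib.Subtrusive.Valuation Groth.Agent.Lib.Subtrusive.Criterion

namespace Groth.Agent.Lib.Subtrusive.LocallyClosedFP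

variable {X Y : Scheme.{u}}

/-- A point of the closure of a saturated set has a generization all of whose companions in the
same fibre lie in that closure. -/
theorem exists_generization (f : X ⟶ Y) [LocallyOfFinitePresentation f] [QuasiCompact f]
    {E : Set Y} {c : X} (hc : c ∈ closure (f ⁻¹' E)) :
    ∃ z, z ⤳ c ∧ ∀ d, f d = f z → d ∈ closure (f ⁻¹' E) := by
  obtain ⟨V₀, hV₀, hc₀, -⟩ := exists_isAffineOpen_mem_and_subset (x := f c) (U := ⊤) trivial
  obtain ⟨V, hV, hcV, hle⟩ := exists_isAffineOpen_mem_and_subset (x := c) (U := f ⁻¹ᵁ V₀) hc₀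
  have hA : IsAffine (V₀ : Scheme.{u}) := hV₀
  have hB : IsAffine (V : Scheme.{u}) := hV
  let r : (V : Scheme.{u}) ⟶ (V₀ : Scheme.{u}) := f.resLE V₀ V hle
  have hr : ∀ a : (V : Scheme.{u}), V₀.ι (r a) = f (V.ι a) := fun a => by
    rw [← Scheme.Hom.comp_apply, Scheme.Hom.resLE_comp_ι, Scheme.Hom.comp_apply]
  let S : Set (Set (V : Scheme.{u})) :=
    {T | Topology.IsConstructible T ∧ V.ι ⁻¹' (f ⁻¹' E) ⊆ T}
  have hcl : (⟨c, hcV⟩ : (V : Scheme.{u})) ∈ closure (⋂₀ S) := by
    have hsub : V.ι ⁻¹' (f ⁻¹' E) ⊆ ⋂₀ S := fun a ha T hT => hT.2 ha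
    refine closure_mono hsub ?_
    have e : closure (V.ι ⁻¹' (f ⁻¹' E)) = V.ι ⁻¹' closure (f ⁻¹' E) :=
      (V.ι.isOpenEmbedding.isOpenMap.preimage_closure_eq_closure_preimage V.ι.continuous _).symm
    rw [e]
    exact hc
  obtain ⟨z, hz, hzc⟩ := ProConstructible.exists_generization (S := S) (fun T hT => hT.1) hcl
  refine ⟨V.ι z, hzc.map V.ι.continuous, fun d hd => ?_⟩
  by_contra hn
  have hd₀ : f d ∈ V₀ := hd ▸ hle z.2
  obtain ⟨O, hO, hdO, hOle⟩ := exists_isAffineOpen_mem_and_subset (x := d)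
    (U := f ⁻¹ᵁ V₀ ⊓ ⟨(closure (f ⁻¹' E))ᶜ, isClosed_closure.isOpen_compl⟩) ⟨hd₀, hn⟩
  have hC : IsAffine (O : Scheme.{u}) := hO
  have hOle' : O ≤ f ⁻¹ᵁ V₀ := fun a ha => (hOle ha).1
  let s : (O : Scheme.{u}) ⟶ (V₀ : Scheme.{u}) := f.resLE V₀ O hOle'
  have hs : ∀ a : (O : Scheme.{u}), V₀.ι (s a) = f (O.ι a) := fun a => by
    rw [← Scheme.Hom.comp_apply, Scheme.Hom.resLE_comp_ι, Scheme.Hom.comp_apply]
  have hT : Topology.IsConstructible (r ⁻¹' (s '' Set.univ)) :=
    r.isConstructible_preimage (s.isConstructible_image Topology.IsConstructible.univ)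
  have hmem : z ∈ (r ⁻¹' (s '' Set.univ))ᶜ := by
    refine hz _ ⟨hT.compl, ?_⟩
    rintro a ha ⟨b, -, hb⟩
    have : f (O.ι b) = f (V.ι a) := by rw [← hs, hb, hr]
    exact (hOle b.2).2 (subset_closure (show f (O.ι b) ∈ E from this ▸ ha))
  refine hmem ⟨⟨d, hdO⟩, trivial, ?_⟩
  refine V₀.ι.isOpenEmbedding.injective ?_
  rw [hs, hr]
  exact hd

theorem descend (f : X ⟶ Y) [LocallyOfFinitePresentation f] [QuasiCompact f]
    (hf : UnivSSubtrusive f) {E : Set Y} (hl : IsLocallyClosed (f ⁻¹' E)) :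
    IsLocallyClosed E := by
  have hs : Function.Surjective f := surjective_of_isSSubtrusive (isSSubtrusive_of_univ hf)
  have chain : ∀ {c' : X} {y : Y}, c' ∈ closure (f ⁻¹' E) → f c' ⤳ y → ∃ d d' : X,
      d' ∈ closure (f ⁻¹' E) ∧ d' ⤳ d ∧ f d' = f c' ∧ f d = y := by
    intro c' y hc' hy
    obtain ⟨z, hzc, hz⟩ := exists_generization f hc'
    obtain ⟨x, hx, hxe⟩ := Chain.exists_chain_lift f hf 2 ![f z, f c', y] (by
      intro i j hij
      fin_cases i <;> fin_cases j <;>
        first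
          | exact absurd hij (by decide)
          | exact specializes_refl _
          | exact hzc.map f.continuous
          | exact hy
          | exact (hzc.map f.continuous).trans hy)
    exact ⟨x 2, x 1, (hx 0 1 (by decide)).mem_closed isClosed_closure (hz _ (hxe 0)),
      hx 1 2 (by decide), hxe 1, hxe 2⟩
  have hC : IsClosed (f '' closure (f ⁻¹' E)) := by
    refine ClosedImage.isClosed_image f isClosed_closure ?_
    rintro _ y hy ⟨c', hc', rfl⟩
    obtain ⟨d, d', h1, h2, -, hd⟩ := chain hc' hy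
    exact ⟨d, h2.mem_closed isClosed_closure h1, hd⟩
  have hclE : closure E = f '' closure (f ⁻¹' E) := by
    refine Set.Subset.antisymm (closure_minimal (fun y hy => ?_) hC) ?_
    · obtain ⟨x, rfl⟩ := hs y
      exact ⟨x, subset_closure hy, rfl⟩
    · exact (image_closure_subset_closure_image f.continuous).trans
        (closure_mono (Set.image_preimage_subset _ _))
  have hcob : IsClosed (closure (f ⁻¹' E) \ f ⁻¹' E) := by
    have := (isLocallyClosed_tfae (f ⁻¹' E)).out 0 1
    rw [← isOpen_compl_iff]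
    exact this.mp hl
  have hD : IsClosed (f '' (closure (f ⁻¹' E) \ f ⁻¹' E)) := by
    refine ClosedImage.isClosed_image f hcob ?_
    rintro _ y hy ⟨c', hc', rfl⟩
    obtain ⟨d, d', h1, h2, hd', hd⟩ := chain hc'.1 hy
    refine ⟨d, ⟨h2.mem_closed isClosed_closure h1, fun hdE => ?_⟩, hd⟩
    obtain ⟨U, Z, hU, hZ, he⟩ := hl
    have : d' ∈ f ⁻¹' E := by
      rw [he] at hdE ⊢
      exact ⟨h2.mem_open hU hdE.1,
        closure_minimal (he ▸ Set.inter_subset_right) hZ h1⟩
    rw [Set.mem_preimage, hd'] at this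
    exact hc'.2 this
  have he : closure E \ E = f '' (closure (f ⁻¹' E) \ f ⁻¹' E) := by
    rw [hclE, Set.image_sdiff_preimage]
  refine ((isLocallyClosed_tfae E).out 0 1).mpr ?_
  rw [← he] at hD
  exact hD.isOpen_compl

end Groth.Agent.Lib.Subtrusive.LocallyClosedFP
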