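import Groth.Agent.Lib.Subtrusive.VCover

/-!
Zariski coverings are V coverings; V coverings and disjoint unions.
-/

universe w w' u

open CategoryTheory CategoryTheory.Limits AlgebraicGeometry HTop
open Groth.Agent.Lib.Subtrusive.Valuation Groth.Agent.Lib.Subtrusive.Criterion

namespace Groth.Agent.Lib.Subtrusive.OpenCover

variable {T : Scheme.{u}}

theorem isVCover_of_openImmersion (E : PreZeroHypercover.{w} T) (h : ∀ i, IsOpenImmersion (E.f i))
    (hs : ∀ t : T, ∃ i x, E.f i x = t) : IsVCover E := by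
  intro O
  have hA : IsAffine (O.1 : Scheme.{u}) := O.2
  have hz : ∀ z : (O.1 : Scheme.{u}), ∃ (i : E.I₀) (W : (O.1 : Scheme.{u}).Opens),
      IsAffineOpen W ∧ z ∈ W ∧ Set.range (W.ι ≫ O.1.ι) ⊆ Set.range (E.f i) := fun z => by
    obtain ⟨i, x, hx⟩ := hs (O.1.ι z)
    have := h i
    obtain ⟨W, hW, hzW, hle⟩ := exists_isAffineOpen_mem_and_subset (x := z)
      (U := O.1.ι ⁻¹ᵁ (E.f i).opensRange) ⟨x, hx⟩
    refine ⟨i, W, hW, hzW, ?_⟩
    rintro _ ⟨w, rfl⟩
    rw [Scheme.Hom.comp_apply]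
    have hw : W.ι w ∈ (W : Set (O.1 : Scheme.{u})) := Scheme.Opens.range_ι W ▸ ⟨w, rfl⟩
    exact hle hw
  choose i W hW hzW hr using hz
  obtain ⟨s, hsc⟩ := isCompact_univ.elim_finite_subcover (fun z => (W z : Set (O.1 : Scheme.{u})))
    (fun z => (W z).2) fun z _ => Set.mem_iUnion.mpr ⟨z, hzW z⟩
  let F : PreZeroHypercover.{u} (O.1 : Scheme.{u}) :=
    { I₀ := (s : Type u), X := fun z => (W z.1 : Scheme.{u}), f := fun z => (W z.1).ι }
  have : Finite F.I₀ := inferInstanceAs (Finite (s : Type u))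
  refine VCover.exists_reindex (F := F) (VCover.isStandardV_of_liftsFam F (fun z => hW z.1)
    (VCover.liftsFam_of_openImmersion F
      (fun z => inferInstanceAs (IsOpenImmersion (W z.1).ι)) fun t => ?_)) fun z => ?_
  · obtain ⟨z, hz, ht⟩ := Set.mem_iUnion₂.mp (hsc (Set.mem_univ t))
    exact ⟨⟨z, hz⟩, ⟨t, ht⟩, rfl⟩
  · have := h (i z.1)
    exact ⟨i z.1, IsOpenImmersion.lift (E.f (i z.1)) ((W z.1).ι ≫ O.1.ι) (hr z.1),
      IsOpenImmersion.lift_fac _ _ _⟩

theorem isVCover_sigmaDesc_iff (E : PreZeroHypercover.{w} T) [Small.{u} E.I₀] :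
    IsVCover (PreZeroHypercover.singleton.{w'} (Sigma.desc E.f)) ↔ IsVCover E := by
  constructor
  · intro h O
    obtain ⟨F, hF, hr⟩ := h O
    choose i k hk using hr
    let C : PreZeroHypercover.{w} (∐ E.X) :=
      { I₀ := E.I₀, X := E.X, f := Sigma.ι E.X }
    have hC : IsVCover C := isVCover_of_openImmersion C
      (fun j => inferInstanceAs (IsOpenImmersion (Sigma.ι E.X j))) fun t => by
        obtain ⟨j, x, hx⟩ := (sigmaOpenCover E.X).exists_eq t
        exact ⟨j, x, hx⟩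
    have := fun j => hF.isAffine_obj j
    choose H hH hHr using fun j => VCover.exists_standard_refining hC
      (k j : F.X j ⟶ ∐ E.X)
    refine VCover.exists_reindex (VCover.isStandardV_bind hF hH) ?_
    rintro ⟨j, l⟩
    obtain ⟨m, q, hq⟩ := hHr j l
    refine ⟨m, q, ?_⟩
    show q ≫ E.f m = ((H j).f l ≫ F.f j) ≫ O.1.ι
    rw [Category.assoc]
    exact (congrArg (q ≫ ·) (Sigma.ι_desc E.f m).symm).trans ((Category.assoc _ _ _).symm.trans
      ((congrArg (· ≫ Sigma.desc E.f) hq).trans ((Category.assoc _ _ _).trans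
        (congrArg ((H j).f l ≫ ·) (hk j)))))
  · intro h O
    obtain ⟨F, hF, hr⟩ := h O
    refine ⟨F, hF, fun j => ?_⟩
    obtain ⟨m, q, hq⟩ := hr j
    refine ⟨PUnit.unit, q ≫ Sigma.ι E.X m, ?_⟩
    show (q ≫ Sigma.ι E.X m) ≫ Sigma.desc E.f = _
    rw [Category.assoc, Sigma.ι_desc, hq]

end Groth.Agent.Lib.Subtrusive.OpenCover
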